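import Cfsg.Agent.TwoF.DC.Fin.Aut
import Cfsg.Agent.TwoF.DC.Mod.Can

/-!
# TwoF, defining characteristic: the finite groups, main theorem (helper7)

* `Tws.std` : the `Std` of a twist; `cover_of`, `autFact`, `full`; `boxFin : BoxFin` ;
* generators of `TT` for orbits of length one, two and three.
-/

set_option autoImplicit false
set_option linter.unusedSectionVars false

namespace Cfsg.Agent.TwoF.DC

open Finset Cfsg.Agent.H45.UniE Cfsg.Agent.H564.TWP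

variable {p : ℕ} {ι Φ k G : Type} [Fintype ι] [DecidableEq ι] [Fintype Φ] [DecidableEq Φ] [Field k] [Group G]
  [IsAlgClosed k] [Fact p.Prime] [CharP k p] {D : RDat p ι Φ k G}

theorem RDat.fa_of {ok : (ι → ℕ) → Prop} (h : ∃ l : ι → ℕ, (∀ i, l i < p) ∧ l ≠ 0 ∧ ok l) (h' : Faith D.R p k ok) :
    D.Fa := by
  obtain ⟨C⟩ := boxHW p ι Φ k G D
  obtain ⟨l, h1, h0, h2⟩ := h
  exact Can.Fa.fa (C := C) fun b => ⟨l, h1, h0, h' _ _ (by rwa [C.lam]) b⟩

namespace Tws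

variable (P : Tws D) (hF : D.Fa)

theorem Comb.fa {P : Tws D} {ok : (ι → ℕ) → Prop} (h : P.Comb ok) : D.Fa := RDat.fa_of h.ex h.faith

/-- every quasisimple cover of `S` with centre of order prime to `p` is a quotient of the finite group -/
def Cover {S : Type} [Group S] (π : P.TT →* S) : Prop :=
  ∀ (K : Type) [Group K] [Finite K], IsQuasisimple K → ¬ p ∣ Nat.card (Subgroup.center K) →
    ∀ e : (K ⧸ Subgroup.center K) ≃* S, ∃ ψ : P.TT →* K, Function.Surjective ψ ∧ ∀ s, e (QuotientGroup.mk (ψ s)) = π s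

/-- **the finite group as a `Std`** -/
noncomputable def std [Finite P.TT] {S : Type} [Group S] (π : P.TT →* S) (hπ : Function.Surjective π)
    (hT : commutator P.TT = ⊤) (hc : P.Cover π) : Std D P.TT S where
  f := P.f
  f_pos := P.f_pos
  Fr := P.Fr
  Fr_z := P.Fr_z
  Fr_y := P.Fr_y
  Δ_Fr := P.Δ_Fr
  Gr := P.Gr
  gr := P.gr
  gι := P.gι
  gΦ := P.gΦ
  gι_inj := P.gι_inj
  gr_x := P.gr_x
  gr_y := P.gr_y
  gr_z := P.gr_z
  cf_gr := P.cf_gr
  co_gr := P.co_gr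
  C_gr := P.C_gr
  ht_gr := P.ht_gr
  Δ_gr := P.Δ_gr
  Gr_small := P.Gr_small
  σ := P.σ
  φ := P.TT.subtype
  φ_inj := P.TT.subtype_injective
  φ_fix s := (P.Θ_apply s).symm.trans (P.TT_le_Fx s.2)
  φ_Fr s := ⟨⟨_, P.GF_TT (Commute.one_left _) 1 s.2⟩, by simp [GF_apply]⟩
  φ_gr γ h s := ⟨⟨_, P.GF_TT h 0 s.2⟩, by simp [GF_apply]⟩
  J := Orb P.sι
  C j := P.CC j
  E := P.sys hF
  χ j := (P.CC j).subtype
  orb := orb P.sι
  e i := (p ^ P.f) ^ ex P.sι i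
  hyp := P.hyp hF
  hwt W _ _ := by have := P.osym.finite_W; exact wt_ofRGD _ _
  wt_le := P.wt_le
  wt_inj := P.wt_inj
  card_U := P.card_U hF
  syl := P.syl hF
  perfect := hT
  π := π
  π_surj := hπ
  cover := hc

include hF in
theorem cover_of {S : Type} [Group S] (hS : IsSimpleGroup S) (hn : ¬ IsMulCommutative S) {π : P.TT →* S}
    (hπ : Function.Surjective π) (hc : π.ker ≤ Subgroup.center P.TT) {A : Type} [CommGroup A]
    (hA : HasSchurMultiplier S A) {d a : ℕ} (hd : Nat.card A ∣ d * p ^ a) (hd0 : 0 < d) (hd' : d ≤ Nat.card P.Zc) :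
    P.Cover π := by
  intro K _ _ hK hp e
  have := P.finite_TT hF
  have hS' := perfect_of_simple hS hn
  have hk := ker_eq_center hS hn hπ hc
  have h1 : (e.toMonoidHom.comp (QuotientGroup.mk' (Subgroup.center K))).ker = Subgroup.center K := by
    ext x
    rw [MonoidHom.mem_ker, MonoidHom.comp_apply, MulEquiv.coe_toMonoidHom, map_eq_one_iff _ e.injective,
      QuotientGroup.mk'_apply, QuotientGroup.eq_one_iff]
  exact cover_of_mult Fact.out hS' hA (H95.StemCover.isStem (P.perfect_of hF hS' hπ hc) hπ hc)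
    (H95.StemCover.isStem (π := e.toMonoidHom.comp (QuotientGroup.mk' (Subgroup.center K))) hK.1.commutator_eq_top
      (e.surjective.comp (QuotientGroup.mk'_surjective _)) h1.le)
    (hk ▸ P.not_dvd_center hF) (h1.symm ▸ hp) hd hd0 (by rwa [hk, P.card_center hF])

theorem autFact [Finite P.TT] {S : Type} [Group S] (hS : IsSimpleGroup S) (hn : ¬ IsMulCommutative S) {π : P.TT →* S}
    (hπ : Function.Surjective π) (hc : π.ker ≤ Subgroup.center P.TT) (hT : commutator P.TT = ⊤) (hcv : P.Cover π)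
    (hA : Nat.card (MulAut S) ≤
      Nat.card P.Zc * Nat.card (Subgroup.centralizer ({P.σ} : Set P.Gr)) * P.f * Nat.card S) :
    (P.std hF π hπ hT hcv).AutFact := fun α => by
  obtain ⟨s, c, γ, a, hγ, h⟩ := P.aut_of_card hF hS hn hπ hc hA α
  refine ⟨s, D.κ c, γ, a, D.κ_mem (fun i c => Subgroup.subset_closure (by exact ⟨i, c, rfl⟩)) c, hγ, fun s₁ => ?_⟩
  obtain ⟨s₂, h1, h2⟩ := h s₁
  exact ⟨s₂, h1.trans (by rw [dl_apply, GF_apply]; rfl), h2⟩

theorem full [Finite P.TT] {S : Type} [Group S] {π : P.TT →* S} {hπ : Function.Surjective π} {hT : commutator P.TT = ⊤}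
    {hcv : P.Cover π} {ok : (ι → ℕ) → Prop} (h : P.Comb ok) (ha : (P.std hF π hπ hT hcv).AutFact) :
    (P.std hF π hπ hT hcv).Full ok :=
  ⟨ha, h.ex, h.ok_gr, h.faith, h.ct, h.bg, h.ctg, h.ctf, h.eight⟩

include hF in
/-- the `Std` with its automorphisms, from the numerical data -/
theorem exists_std [Finite P.TT] {S : Type} [Group S] (h : P.Num S) : ∃ (π : P.TT →* S) (hπ : Function.Surjective π)
    (hT : commutator P.TT = ⊤) (hcv : P.Cover π), (P.std hF π hπ hT hcv).AutFact := by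
  obtain ⟨hS, hn, ⟨π, hπ, hc⟩, d, hd, ⟨A, _, a, hA, hA'⟩, hM⟩ := h
  have : Finite S := Finite.of_surjective _ hπ
  have hd0 : 0 < d := Nat.pos_of_ne_zero fun h0 => by
    rw [h0, zero_mul, zero_mul, zero_mul] at hM
    exact (Nat.card_pos.trans_le hM).false
  exact ⟨π, hπ, P.perfect_of hF (perfect_of_simple hS hn) hπ hc, P.cover_of hF hS hn hπ hc hA hA' hd0 hd,
    P.autFact hF hS hn hπ hc _ _ (hM.trans (by gcongr))⟩

/-! ### short orbits -/

theorem po_of_pow {i : ι} {n : ℕ} (hn : (P.sι ^ n) i = i) (h0 : 0 < n)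
    (hl : ((List.range n).map fun m => (P.sι ^ m) i).Nodup) {g : ι → G} (hg : ∀ i, g i ∈ D.Lo i) :
    P.po (orb P.sι i) g = ((List.range n).map fun m => g ((P.sι ^ m) i)).prod := by
  rw [← P.po_perm hg hl fun i' => ⟨fun h => ?_, fun h => ?_⟩, List.map_map]
  · rfl
  · obtain ⟨m, -, rfl⟩ := List.mem_map.1 h
    exact orb_pow m i
  · obtain ⟨m, rfl⟩ := exists_pow_of_orb h.symm
    refine List.mem_map.2 ⟨m % n, List.mem_range.2 (Nat.mod_lt _ h0), ?_⟩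
    conv_rhs => rw [← Nat.mod_add_div m n, pow_add, pow_mul, Equiv.Perm.mul_apply,
      Equiv.Perm.pow_apply_eq_self_of_apply_eq_self hn]

theorem po_one' {i : ι} (h : P.sι i = i) {g : ι → G} (hg : ∀ i, g i ∈ D.Lo i) : P.po (orb P.sι i) g = g i := by
  rw [P.po_of_pow (n := 1) (by simpa using h) one_pos (by simp) hg]; simp

theorem po_two {i : ι} (h : P.sι i ≠ i) (h2 : P.sι (P.sι i) = i) {g : ι → G} (hg : ∀ i, g i ∈ D.Lo i) :
    P.po (orb P.sι i) g = g i * g (P.sι i) := by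
  rw [P.po_of_pow (n := 2) (by simpa [pow_succ] using h2) two_pos (by simpa [List.range_succ] using h.symm) hg]
  simp [List.range_succ]

theorem po_three {i : ι} (h : P.sι i ≠ i) (h3 : P.sι (P.sι (P.sι i)) = i) {g : ι → G} (hg : ∀ i, g i ∈ D.Lo i) :
    P.po (orb P.sι i) g = g i * g (P.sι i) * g (P.sι (P.sι i)) := by
  have h1 : P.sι (P.sι i) ≠ i := fun e => h (by rw [e] at h3; exact h3)
  rw [P.po_of_pow (n := 3) (by simpa [pow_succ] using h3) three_pos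
    (by simpa [List.range_succ, pow_succ] using ⟨⟨h.symm, h1.symm⟩, h.symm⟩) hg]
  simp [List.range_succ, pow_succ, mul_assoc]

theorem exists_tw (i : ι) {a : k} {n : ℕ} (hn : (P.sι ^ n) i = i) (h0 : 0 < n)
    (hl : ∀ m, 0 < m → m < n → (P.sι ^ m) i ≠ i) (ha : a ^ (p ^ P.f) ^ n = a) :
    ∃ v : ι → k, v i = a ∧ ∀ i', orb P.sι i' = orb P.sι i → v (P.sι i') = v i' ^ p ^ P.f := by
  have h1 : Function.minimalPeriod P.sι i = n := by
    have h2 : Function.IsPeriodicPt P.sι n i := by rwa [Function.IsPeriodicPt, Function.IsFixedPt, Equiv.Perm.iterate_eq_pow]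
    refine le_antisymm (h2.minimalPeriod_le h0) (not_lt.1 fun h => hl _ (h2.minimalPeriod_pos h0) h ?_)
    rw [← Equiv.Perm.iterate_eq_pow]
    exact Function.isPeriodicPt_minimalPeriod _ _
  have h2 : ol (orb P.sι i) = n := by
    rw [← h1, ol]
    conv_rhs => rw [← pow_ex (σ := P.sι) i, ← Equiv.Perm.iterate_eq_pow]
    exact (Function.minimalPeriod_apply_iterate (Function.Injective.mem_periodicPts P.sι.injective _) _).symm
  refine ⟨fun i' => (a ^ (p ^ P.f) ^ (n - ex P.sι i)) ^ (p ^ P.f) ^ ex P.sι i', ?_, fun i' hi' =>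
    tw_mk (by rw [hi', h2, ← pow_mul, mul_comm, pow_mul, ha])⟩
  show (a ^ _) ^ _ = a
  rw [← pow_mul, ← pow_add, Nat.sub_add_cancel (h2 ▸ (ex_lt i).le), ha]

theorem xy_mem_one {i : ι} (h : P.sι i = i) {a : k} (ha : a ^ p ^ P.f = a) : D.x i a ∈ P.TT ∧ D.y i a ∈ P.TT := by
  obtain ⟨v, rfl, hv⟩ := P.exists_tw i (a := a) (n := 1) (by simpa using h) one_pos (fun m _ _ => by omega) (by simpa using ha)
  exact ⟨P.po_one' h (fun i => D.x_mem_Lo i (v i)) ▸ P.xo_mem_TT hv, P.po_one' h (fun i => D.y_mem_Lo i (v i)) ▸ P.yo_mem_TT hv⟩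

theorem xy_mem_two {i : ι} (h : P.sι i ≠ i) (h2 : P.sι (P.sι i) = i) {a : k} (ha : (a ^ p ^ P.f) ^ p ^ P.f = a) :
    D.x i a * D.x (P.sι i) (a ^ p ^ P.f) ∈ P.TT ∧ D.y i a * D.y (P.sι i) (a ^ p ^ P.f) ∈ P.TT := by
  obtain ⟨v, rfl, hv⟩ := P.exists_tw i (a := a) (n := 2) (by simpa [pow_succ] using h2) two_pos
    (fun m _ _ => by obtain rfl : m = 1 := by omega
                     simpa using h) (by rwa [sq, pow_mul])
  rw [← hv i rfl]
  exact ⟨P.po_two h h2 (fun i => D.x_mem_Lo i (v i)) ▸ P.xo_mem_TT hv,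
    P.po_two h h2 (fun i => D.y_mem_Lo i (v i)) ▸ P.yo_mem_TT hv⟩

theorem xy_mem_three {i : ι} (h : P.sι i ≠ i) (h3 : P.sι (P.sι (P.sι i)) = i) {a : k}
    (ha : ((a ^ p ^ P.f) ^ p ^ P.f) ^ p ^ P.f = a) :
    D.x i a * D.x (P.sι i) (a ^ p ^ P.f) * D.x (P.sι (P.sι i)) ((a ^ p ^ P.f) ^ p ^ P.f) ∈ P.TT ∧
      D.y i a * D.y (P.sι i) (a ^ p ^ P.f) * D.y (P.sι (P.sι i)) ((a ^ p ^ P.f) ^ p ^ P.f) ∈ P.TT := by
  have h1 : P.sι (P.sι i) ≠ i := fun e => h (by rw [e] at h3; exact h3)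
  obtain ⟨v, rfl, hv⟩ := P.exists_tw i (a := a) (n := 3) (by simpa [pow_succ] using h3) three_pos
    (fun m _ _ => by
      obtain rfl | rfl : m = 1 ∨ m = 2 := by omega
      · simpa using h
      · simpa [pow_succ] using h1) (by rwa [pow_succ, sq, pow_mul, pow_mul])
  rw [← hv i rfl, ← hv _ (orb_apply i)]
  exact ⟨P.po_three h h3 (fun i => D.x_mem_Lo i (v i)) ▸ P.xo_mem_TT hv,
    P.po_three h h3 (fun i => D.y_mem_Lo i (v i)) ▸ P.yo_mem_TT hv⟩

include hF in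
/-- generators, all orbits have length at most three -/
theorem TT_le_of {K : Subgroup G} (h0 : ∀ i, P.sι (P.sι i) = i ∨ P.sι (P.sι (P.sι i)) = i)
    (h1 : ∀ i a, P.sι i = i → a ^ p ^ P.f = a → D.x i a ∈ K ∧ D.y i a ∈ K)
    (h2 : ∀ i a, P.sι i ≠ i → P.sι (P.sι i) = i → (a ^ p ^ P.f) ^ p ^ P.f = a →
      D.x i a * D.x (P.sι i) (a ^ p ^ P.f) ∈ K ∧ D.y i a * D.y (P.sι i) (a ^ p ^ P.f) ∈ K)
    (h3 : ∀ i a, P.sι i ≠ i → P.sι (P.sι (P.sι i)) = i → ((a ^ p ^ P.f) ^ p ^ P.f) ^ p ^ P.f = a →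
      D.x i a * D.x (P.sι i) (a ^ p ^ P.f) * D.x (P.sι (P.sι i)) ((a ^ p ^ P.f) ^ p ^ P.f) ∈ K ∧
        D.y i a * D.y (P.sι i) (a ^ p ^ P.f) * D.y (P.sι (P.sι i)) ((a ^ p ^ P.f) ^ p ^ P.f) ∈ K) : P.TT ≤ K := by
  refine P.TT_le hF fun j v hv => ?_
  obtain ⟨i, rfl⟩ : ∃ i, orb P.sι i = j := ⟨_, orb_rp j⟩
  have e1 := hv i rfl
  have e2 := hv _ (orb_apply i)
  have e3 := hv _ ((orb_apply _).trans (orb_apply i))
  by_cases h : P.sι i = i
  · rw [xo, yo, P.po_one' h fun i => D.x_mem_Lo i _, P.po_one' h fun i => D.y_mem_Lo i _]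
    exact h1 i _ h (by rw [← e1, h])
  · rcases h0 i with h' | h'
    · rw [xo, yo, P.po_two h h' fun i => D.x_mem_Lo i _, P.po_two h h' fun i => D.y_mem_Lo i _, e1]
      exact h2 i _ h h' (by rw [← e1, ← e2, h'])
    · rw [xo, yo, P.po_three h h' fun i => D.x_mem_Lo i _, P.po_three h h' fun i => D.y_mem_Lo i _, e2, e1]
      exact h3 i _ h h' (by rw [← e1, ← e2, ← e3, h'])

include hF in
/-- generators, untwisted case -/
theorem TT_eq_one (h : ∀ i, P.sι i = i) :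
    P.TT = Subgroup.closure {g | ∃ i a, a ^ p ^ P.f = a ∧ (g = D.x i a ∨ g = D.y i a)} := by
  refine le_antisymm (P.TT_le_of hF (fun i => Or.inl (by rw [h, h])) (fun i a _ ha =>
    ⟨Subgroup.subset_closure ⟨i, a, ha, Or.inl rfl⟩, Subgroup.subset_closure ⟨i, a, ha, Or.inr rfl⟩⟩)
    (fun i _ h' => (h' (h i)).elim) fun i _ h' => (h' (h i)).elim) ((Subgroup.closure_le _).2 ?_)
  rintro _ ⟨i, a, ha, rfl | rfl⟩
  · exact (P.xy_mem_one (h i) ha).1
  · exact (P.xy_mem_one (h i) ha).2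

include hF in
/-- generators, the twist is an involution -/
theorem TT_eq_two (h : ∀ i, P.sι (P.sι i) = i) :
    P.TT = Subgroup.closure {g | ∃ i a, (P.sι i = i ∧ a ^ p ^ P.f = a ∧ (g = D.x i a ∨ g = D.y i a)) ∨
      (P.sι i ≠ i ∧ (a ^ p ^ P.f) ^ p ^ P.f = a ∧
        (g = D.x i a * D.x (P.sι i) (a ^ p ^ P.f) ∨ g = D.y i a * D.y (P.sι i) (a ^ p ^ P.f)))} := by
  refine le_antisymm (P.TT_le_of hF (fun i => Or.inl (h i)) (fun i a hi ha =>
    ⟨Subgroup.subset_closure ⟨i, a, Or.inl ⟨hi, ha, Or.inl rfl⟩⟩, Subgroup.subset_closure ⟨i, a, Or.inl ⟨hi, ha, Or.inr rfl⟩⟩⟩)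
    (fun i a hi _ ha => ⟨Subgroup.subset_closure ⟨i, a, Or.inr ⟨hi, ha, Or.inl rfl⟩⟩,
      Subgroup.subset_closure ⟨i, a, Or.inr ⟨hi, ha, Or.inr rfl⟩⟩⟩) fun i _ h' h'' => (h' (by rwa [h] at h'')).elim)
    ((Subgroup.closure_le _).2 ?_)
  rintro _ ⟨i, a, ⟨hi, ha, rfl | rfl⟩ | ⟨hi, ha, rfl | rfl⟩⟩
  · exact (P.xy_mem_one hi ha).1
  · exact (P.xy_mem_one hi ha).2
  · exact (P.xy_mem_two hi (h i) ha).1
  · exact (P.xy_mem_two hi (h i) ha).2

end Tws

/-- **the main theorem of the folder** -/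
theorem boxFin : BoxFin := fun h p _ ι Φ k G _ _ _ _ _ _ _ _ D P S _ hN hC => by
  have := P.finite_TT hC.fa
  obtain ⟨π, hπ, hT, hcv, ha⟩ := P.exists_std hC.fa hN
  exact h p ι Φ k G D _ S _ (P.full hC.fa hC ha)

end Cfsg.Agent.TwoF.DC
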