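import Cfsg.Agent.TwoF.DC.Fin.Sys
import Cfsg.Agent.Nodes.NormalForm
import Cfsg.Agent.H95.StemCover

/-!
# TwoF, defining characteristic: the finite groups, centre, covers and automorphisms (helper7)

* `Tws.card_center`, `perfect_of`, `ker_eq`, `cover_of_mult` ;
* `Tws.aut_of_card` : the automorphisms of the simple quotient, by counting.
-/

set_option autoImplicit false
set_option linter.unusedSectionVars false

namespace Cfsg.Agent.TwoF.DC

open Finset Cfsg.Agent.H45.UniE CoxeterSystem Cfsg.Agent.ChevalleyStructure.CoxeterGeom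
  Cfsg.Agent.Tits.Roots Cfsg.Agent.Nodes.Reps Cfsg.Agent.Nodes.BNOf Cfsg.Agent.Nodes.RGDLib Cfsg.Agent.Nodes.Bruhat
  Cfsg.Agent.Nodes.OppDec Cfsg.Agent.H564.TWP
open scoped commutatorElement

/-! ### group theory -/

section grp

variable {T T' S : Type} [Group T] [Group T'] [Group S]

theorem hom_eq_of_perfect (hT : commutator T = ⊤) {π : T' →* S} (hc : π.ker ≤ Subgroup.center T') {β β' : T →* T'}
    (h : ∀ s, π (β s) = π (β' s)) (s : T) : β s = β' s := by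
  have h1 : ∀ a, ∃ z ∈ Subgroup.center T', β a = β' a * z := fun a =>
    ⟨(β' a)⁻¹ * β a, hc (by rw [MonoidHom.mem_ker, map_mul, map_inv, h, inv_mul_cancel]), by group⟩
  have h2 : commutator T ≤ β.eqLocus β' := by
    rw [commutator_def, Subgroup.commutator_le]
    intro a _ b _
    obtain ⟨z, hz, e⟩ := h1 a
    obtain ⟨w, hw, e'⟩ := h1 b
    show β ⁅a, b⁆ = β' ⁅a, b⁆
    rw [map_commutatorElement, map_commutatorElement, e, e', commutatorElement_def, commutatorElement_def]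
    have h3 := Subgroup.mem_center_iff.1 hz (β' b * w)
    have h4 := Subgroup.mem_center_iff.1 hw (β' a)⁻¹
    calc β' a * z * (β' b * w) * (β' a * z)⁻¹ * (β' b * w)⁻¹
        = β' a * (z * (β' b * w)) * z⁻¹ * (β' a)⁻¹ * w⁻¹ * (β' b)⁻¹ := by group
      _ = β' a * β' b * (w * (β' a)⁻¹) * w⁻¹ * (β' b)⁻¹ := by rw [← h3]; group
      _ = _ := by rw [← h4]; group
  exact h2 (hT ▸ Subgroup.mem_top s)

theorem exists_ind [Finite S] {π : T →* S} (hπ : Function.Surjective π) (hk : π.ker = Subgroup.center T) {β : T →* T}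
    (hβ : Function.Surjective β) : ∃ a : MulAut S, ∀ s, a (π s) = π (β s) := by
  have h1 : π.ker ≤ (π.comp β).ker := fun z hz => by
    rw [MonoidHom.mem_ker, MonoidHom.comp_apply, ← MonoidHom.mem_ker, hk, Subgroup.mem_center_iff]
    intro g
    obtain ⟨g, rfl⟩ := hβ g
    rw [← map_mul, ← map_mul, Subgroup.mem_center_iff.1 (hk ▸ hz) g]
  let f : S →* S := π.liftOfSurjective hπ ⟨π.comp β, h1⟩
  have hf : ∀ s, f (π s) = π (β s) := fun s => π.liftOfRightInverse_comp_apply _ _ ⟨π.comp β, h1⟩ s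
  refine ⟨MulEquiv.ofBijective f (Finite.surjective_iff_bijective.1 fun x => ?_), hf⟩
  obtain ⟨t, rfl⟩ := hπ x
  obtain ⟨s, rfl⟩ := hβ t
  exact ⟨π s, hf s⟩

theorem perfect_of_simple (hS : IsSimpleGroup S) (hn : ¬ IsMulCommutative S) : commutator S = ⊤ :=
  (hS.eq_bot_or_eq_top_of_normal (commutator S) inferInstance).resolve_left fun h =>
    hn ⟨⟨fun a b => commutatorElement_eq_one_iff_mul_comm.1 (Subgroup.mem_bot.1
      (h ▸ Subgroup.commutator_mem_commutator (Subgroup.mem_top a) (Subgroup.mem_top b)))⟩⟩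

theorem ker_eq_center (hS : IsSimpleGroup S) (hn : ¬ IsMulCommutative S) {π : T →* S} (hπ : Function.Surjective π)
    (hc : π.ker ≤ Subgroup.center T) : π.ker = Subgroup.center T := by
  refine le_antisymm hc fun z hz => ?_
  have h1 : Subgroup.center S = ⊥ := (hS.eq_bot_or_eq_top_of_normal (Subgroup.center S) inferInstance).resolve_right
    fun h => hn ⟨⟨fun a b => Subgroup.mem_center_iff.1 (h ▸ Subgroup.mem_top b) a⟩⟩
  rw [MonoidHom.mem_ker, ← Subgroup.mem_bot, ← h1, Subgroup.mem_center_iff]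
  intro g
  obtain ⟨g, rfl⟩ := hπ g
  rw [← map_mul, ← map_mul, Subgroup.mem_center_iff.1 hz g]

open Cfsg.Agent.H95.StemCover in
/-- a stem extension whose kernel has the full `p'`-part of the multiplier covers the `p'`-extensions -/
theorem cover_of_mult {p : ℕ} (hp : p.Prime) [Finite T] [Finite T'] (hS : commutator S = ⊤) {A : Type} [CommGroup A]
    (hA : HasSchurMultiplier S A) {τ : T →* S} (hτ : IsStemExtension τ) {ρ : T' →* S} (hρ : IsStemExtension ρ)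
    (h1 : ¬ p ∣ Nat.card τ.ker) (h2 : ¬ p ∣ Nat.card ρ.ker) {d a : ℕ} (hd : Nat.card A ∣ d * p ^ a) (hd0 : 0 < d)
    (hd' : d ≤ Nat.card τ.ker) : ∃ ψ : T →* T', Function.Surjective ψ ∧ ∀ x, ρ (ψ x) = τ x := by
  refine exists_of_injective hS hτ hρ ?_
  have hst := stem_EE hS hτ.1 hρ.1 hτ.2.1 hρ.2.1
  have h3 : Nat.card (τ.comp (pΓ τ ρ)).ker ∣ Nat.card A :=
    card_ker_dvd hA (commutator_EE hS hτ.1 hρ.1 hτ.2.1 hρ.2.1) _ hst.1 hst.2.1
  have h4 : Nat.card (τ.comp (pΓ τ ρ)).ker ∣ Nat.card τ.ker * Nat.card ρ.ker := by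
    rw [← Nat.card_prod]
    refine Subgroup.card_dvd_of_injective (MonoidHom.prod
      (((pΓ τ ρ).comp (Subgroup.subtype _)).codRestrict τ.ker fun x => x.2)
      (((pP τ ρ).comp (Subgroup.subtype _)).codRestrict ρ.ker fun x => (comp_eq x.1).symm.trans x.2)) fun x y h => ?_
    exact Subtype.ext (Subtype.ext (Prod.ext (congrArg (fun z => z.1.1) h) (congrArg (fun z => z.2.1) h)))
  have h5 : (Nat.card (τ.comp (pΓ τ ρ)).ker).Coprime (p ^ a) :=
    Nat.Coprime.pow_right _ ((Nat.Prime.coprime_iff_not_dvd hp).2 fun h =>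
      ((Nat.Prime.dvd_mul hp).1 (h.trans h4)).elim h1 h2).symm
  have h6 : Nat.card (τ.comp (pΓ τ ρ)).ker ≤ Nat.card τ.ker :=
    (Nat.le_of_dvd hd0 (h5.dvd_of_dvd_mul_right (h3.trans hd))).trans hd'
  have h7 : Nat.card (EE τ ρ) = Nat.card (τ.comp (pΓ τ ρ)).ker * Nat.card S := by
    rw [← Subgroup.card_mul_index (τ.comp (pΓ τ ρ)).ker, Subgroup.index_ker, MonoidHom.range_eq_top.2 hst.1,
      Subgroup.card_top]
  have h8 : Nat.card T = Nat.card τ.ker * Nat.card S := by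
    rw [← Subgroup.card_mul_index τ.ker, Subgroup.index_ker, MonoidHom.range_eq_top.2 hτ.1, Subgroup.card_top]
  have hsurj := pΓ_surj (σ := τ) (π := ρ) hS hτ hρ.1
  refine ((Nat.bijective_iff_surjective_and_card _).2 ⟨hsurj, le_antisymm ?_ ?_⟩).1
  · rw [h7, h8]
    exact Nat.mul_le_mul_right _ h6
  · exact Nat.card_le_card_of_surjective _ hsurj

theorem index_range_eq {Q : Type} [Group Q] [Finite Q] (φ : Q →* Q) : φ.range.index = Nat.card φ.ker := by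
  have h1 := φ.range.card_mul_index
  have h2 := φ.ker.card_mul_index
  rw [Subgroup.index_ker, mul_comm] at h2
  exact Nat.eq_of_mul_eq_mul_left Nat.card_pos (h1.trans h2.symm)

end grp

variable {p : ℕ} {ι Φ k G : Type} [Fintype ι] [DecidableEq ι] [Fintype Φ] [DecidableEq Φ] [Field k] [Group G]

namespace RDat

variable (D : RDat p ι Φ k G)

/-- the simple roots as characters, in coroot coordinates -/
def Λ : (ι → kˣ) →* (ι → kˣ) := MonoidHom.pi fun i => wch k (D.R.wt (true, D.R.zi i))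

theorem Λ_def (c : ι → kˣ) (i : ι) : D.Λ c i = wch k (D.R.wt (true, D.R.zi i)) c := rfl

theorem Λ_apply (c : ι → kˣ) (i : ι) : D.Λ c i = ∏ j, c j ^ D.R.C j i := by
  simp only [Λ_def, wch_apply, RC.wt_zi]

theorem Λ_surj [IsAlgClosed k] : Function.Surjective D.Λ := fun r => by
  obtain ⟨N, B, hN, hB⟩ := D.R.exists_adj
  have h1 : ∀ l, ∃ a : kˣ, a ^ N = r l := fun l => by
    obtain ⟨a, ha⟩ := IsAlgClosed.exists_pow_nat_eq (r l : k) hN
    have h0 : a ≠ 0 := fun h => (r l).ne_zero (by rw [← ha, h, zero_pow hN.ne'])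
    exact ⟨Units.mk0 a h0, Units.ext (by simpa using ha)⟩
  choose a ha using h1
  refine ⟨fun j => ∏ l, a l ^ B l j, funext fun i => ?_⟩
  rw [Λ_apply]
  simp only [← Finset.prod_zpow, ← zpow_mul]
  rw [Finset.prod_comm]
  simp only [← zpow_sum', hB]
  rw [Finset.prod_eq_single i (fun l _ h => by rw [if_neg h, zpow_zero]) fun h => (h (mem_univ i)).elim, if_pos rfl,
    zpow_natCast, ha]

theorem κ_conj_U (c : ι → kˣ) {u : G} (hu : u ∈ D.U) : D.κ c * u * (D.κ c)⁻¹ ∈ D.U := by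
  refine (Subgroup.closure_le (K := D.U.comap (MulAut.conj (D.κ c)).toMonoidHom)).2 ?_ hu
  rintro _ ⟨b, s, rfl⟩
  show D.κ c * D.ζ (true, b) s * (D.κ c)⁻¹ ∈ D.U
  rw [D.κ_ζ, mul_inv_cancel_right]
  exact D.z_mem_U _ _

theorem κ_conj_Um (c : ι → kˣ) {u : G} (hu : u ∈ D.Um) : D.κ c * u * (D.κ c)⁻¹ ∈ D.Um := by
  have h := D.τ_U (D.κ_conj_U c⁻¹ (D.τ_Um hu))
  rwa [D.τ_mul, D.τ_mul, D.τ_τ, D.τ_inv, D.τ_T _ (D.κ_mem_T _), map_inv, inv_inv, ← mul_assoc] at h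

end RDat

namespace Tws

variable [IsAlgClosed k] [Fact p.Prime] [CharP k p] {D : RDat p ι Φ k G} (P : Tws D) (hF : D.Fa)

theorem Λ_GF (γ : P.Gr) (a : ℕ) (c : ι → kˣ) (i : ι) :
    D.Λ (fun i => c ((P.gι γ).symm i) ^ p ^ a) i = D.Λ c ((P.gι γ).symm i) ^ p ^ a := by
  obtain ⟨i, rfl⟩ := (P.gι γ).surjective i
  rw [D.Λ_apply, D.Λ_apply, ← Equiv.prod_comp (P.gι γ), ← Finset.prod_pow]
  refine Finset.prod_congr rfl fun j _ => ?_
  rw [P.C_gr, Equiv.symm_apply_apply, Equiv.symm_apply_apply, ← zpow_natCast, ← zpow_natCast, ← zpow_mul, ← zpow_mul,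
    mul_comm]

theorem mem_QQ' {c : ι → kˣ} : c ∈ P.QQ ↔ (fun i => c (P.sι.symm i) ^ p ^ P.f) = c := by
  rw [mem_QQ, funext_iff]
  exact ⟨fun h i => by rw [← h, Equiv.apply_symm_apply], fun h i => by rw [← h, Equiv.symm_apply_apply]⟩

theorem Λ_QQ {c : ι → kˣ} (hc : c ∈ P.QQ) : D.Λ c ∈ P.QQ :=
  P.mem_QQ'.2 (funext fun i => by rw [← P.Λ_GF, P.mem_QQ'.1 hc])

theorem mem_Zc {c : ι → kˣ} : c ∈ P.Zc ↔ c ∈ P.QQ ∧ D.Λ c = 1 := by
  rw [mem_QQ, funext_iff]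
  simp only [D.Λ_apply]
  rfl

theorem κ_xo (c : ι → kˣ) (j : Orb P.sι) (v : ι → k) :
    D.κ c * P.xo j v * (D.κ c)⁻¹ = P.xo j fun i => D.Λ c i * v i := by
  rw [xo, po, ← MulAut.conj_apply, map_list_prod, List.map_map]
  exact congrArg List.prod (List.map_congr_left fun i _ => by
    rw [Function.comp_apply, MulAut.conj_apply, D.κ_x, mul_inv_cancel_right]; rfl)

theorem orb_gι {γ : P.Gr} (hγ : Commute γ P.σ) {i i' : ι} :
    orb P.sι (P.gι γ i) = orb P.sι (P.gι γ i') ↔ orb P.sι i = orb P.sι i' := by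
  have h : ∀ {γ : P.Gr}, Commute γ P.σ → ∀ {i i' : ι}, orb P.sι i = orb P.sι i' →
      orb P.sι (P.gι γ i) = orb P.sι (P.gι γ i') := fun {γ} hγ {i i'} h => by
    refine eq_of_orb (g := fun i => orb P.sι (P.gι γ i)) (fun i => ?_) h
    rw [← Equiv.Perm.mul_apply, ← map_mul, hγ.eq, map_mul, Equiv.Perm.mul_apply, orb_apply]
  refine ⟨fun e => ?_, h hγ⟩
  simpa using h hγ.inv_left e

theorem GF_xo {γ : P.Gr} (hγ : Commute γ P.σ) (a : ℕ) (i₀ : ι) (v : ι → k) :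
    P.GF γ a (P.xo (orb P.sι i₀) v) = P.xo (orb P.sι (P.gι γ i₀)) fun i => v ((P.gι γ).symm i) ^ p ^ a := by
  rw [xo, xo, ← P.po_perm (j := orb P.sι (P.gι γ i₀)) (fun i => D.x_mem_Lo i _)
    (l := (oset (orb P.sι i₀)).toList.map (P.gι γ)) ((Finset.nodup_toList _).map (P.gι γ).injective) fun i => ?_, po,
    map_list_prod, List.map_map, List.map_map]
  · exact congrArg List.prod (List.map_congr_left fun i _ => by
      rw [Function.comp_apply, Function.comp_apply, GF_x, Equiv.symm_apply_apply])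
  · obtain ⟨i, rfl⟩ := (P.gι γ).surjective i
    rw [List.mem_map_of_injective (P.gι γ).injective, Finset.mem_toList, mem_oset, P.orb_gι hγ]

include hF in
theorem orb_eq_of_xo {j j' : Orb P.sι} {g : G} (h : g ∈ P.X (sr j)) (h' : g ∈ P.X (sr j')) (h1 : g ≠ 1) : j = j' := by
  have := P.osym.finite_W
  by_contra hne
  refine h1 (Subgroup.mem_bot.1 (X_inf_X (P.rgd hF) (isRoot_sr _ _ j) (isRoot_sr _ _ j') (fun e => hne ?_) ▸ ⟨h, h'⟩))
  have h2 := congrFun e j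
  by_contra h3
  simp [sr, Pi.single_eq_of_ne h3] at h2

theorem conj_Fx {c : ι → kˣ} (hc : D.Λ c ∈ P.QQ) {g : G} (hg : g ∈ P.Fx) : D.κ c * g * (D.κ c)⁻¹ ∈ P.Fx := by
  have h1 : P.Θ (D.κ c) = D.κ c * D.κ (c⁻¹ * fun i => c (P.sι.symm i) ^ p ^ P.f) := by
    rw [← map_mul, mul_inv_cancel_left, Θ_eq, GF_κ]
  have h2 := D.κ_central (c := c⁻¹ * fun i => c (P.sι.symm i) ^ p ^ P.f) (fun i => by
    rw [← D.Λ_def, map_mul, map_inv, Pi.mul_apply, Λ_GF, congrFun (P.mem_QQ'.1 hc) i, Pi.inv_apply, inv_mul_cancel]) g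
  rw [mem_Fx, map_mul, map_mul, map_inv, P.mem_Fx.1 hg, h1, mul_assoc (D.κ c), h2]
  group

include hF in
theorem finite_U : Finite ↥(D.U ⊓ P.Fx) := (P.card_U_le hF).1

include hF in
theorem mem_B_of_norm {g : G} (hg : g ∈ P.TT) (h : ∀ u ∈ D.U ⊓ P.Fx, g * u * g⁻¹ ∈ D.U) :
    g ∈ RGD.B P.cs P.hC P.H P.X := by
  have := P.osym.finite_W
  have h1 : Finite ((D.U ⊓ P.Fx : Subgroup G) : Set G) := P.finite_U hF
  rw [← Cfsg.Agent.Nodes.NormalForm.normalizer_U (P.rgd hF), P.GG_eq hF, ← P.U_fix hF]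
  exact ⟨Subgroup.mem_normalizer_fintype fun u hu => ⟨h u hu, P.conj_fix (P.TT_le_Fx hg) hu.2⟩, hg⟩

include hF in
/-- an element which normalises both unipotent groups lies in the torus -/
theorem mem_H_of_norm {g : G} (hg : g ∈ P.TT) (h : ∀ u ∈ D.U ⊓ P.Fx, g * u * g⁻¹ ∈ D.U)
    (h' : ∀ u ∈ D.Um ⊓ P.Fx, g * u * g⁻¹ ∈ D.Um) : g ∈ P.H := by
  have := P.osym.finite_W
  rw [← B_inf_BN (P.rgd hF)]
  refine ⟨P.mem_B_of_norm hF hg h, ?_⟩
  obtain ⟨t, ht, u, hu, e⟩ := (P.rgd hF).mem_B.1 (inv_mem_iff.1 (P.mem_B_of_norm hF (inv_mem (P.τ_TT hg)) fun u hu => by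
    have h2 := D.τ_Um (h' _ ⟨D.τ_U hu.1, P.τ_Fx hu.2⟩)
    rwa [D.τ_mul, D.τ_mul, D.τ_τ, D.τ_inv, ← mul_assoc, ← inv_inv (D.τ g), inv_inv (D.τ g)⁻¹] at h2))
  rw [← D.τ_τ g, e, D.τ_mul, D.τ_T _ (D.TorK_le_T ht.1)]
  refine mul_mem (UN_le_BN ?_) (T_le_BN ht)
  rw [← P.U_fix hF] at hu
  rw [← P.Um_fix hF]
  exact ⟨D.τ_U hu.1, P.τ_Fx hu.2⟩

theorem xo_mem_TT {j : Orb P.sι} {v : ι → k} (hv : ∀ i, orb P.sι i = j → v (P.sι i) = v i ^ p ^ P.f) : P.xo j v ∈ P.TT :=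
  P.mem_TT_U (P.xo_mem_U j v) (P.xo_fix hv)

theorem yo_mem_TT {j : Orb P.sι} {v : ι → k} (hv : ∀ i, orb P.sι i = j → v (P.sι i) = v i ^ p ^ P.f) : P.yo j v ∈ P.TT :=
  P.mem_TT_Um (P.yo_mem_Um j v) (P.yo_fix hv)

/-- the centre, from coroot coordinates -/
noncomputable def zc : P.Zc →* Subgroup.center P.TT :=
  ((D.κ.comp P.Zc.subtype).codRestrict P.TT fun c => P.H_le_TT (P.H_eq ▸ ⟨c.1, (P.mem_Zc.1 c.2).1, rfl⟩)).codRestrict _
    fun c => Subgroup.mem_center_iff.2 fun g =>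
      Subtype.ext (D.κ_central (fun i => congrFun (P.mem_Zc.1 c.2).2 i) g).symm

include hF in
theorem zc_bij : Function.Bijective P.zc := by
  refine ⟨fun a b h => Subtype.ext (D.κ_inj (congrArg (fun z => z.1.1) h)), fun z => ?_⟩
  have h1 : ∀ g ∈ P.TT, (z.1 : G) * g * (z.1 : G)⁻¹ = g := fun g hg => by
    have h2 : g * (z.1 : G) = z.1 * g := congrArg Subtype.val (Subgroup.mem_center_iff.1 z.2 ⟨g, hg⟩)
    rw [← h2, mul_inv_cancel_right]
  have h2 := P.mem_H_of_norm hF z.1.2 (fun u hu => by rw [h1 u (P.mem_TT_U hu.1 hu.2)]; exact hu.1)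
    fun u hu => by rw [h1 u (P.mem_TT_Um hu.1 hu.2)]; exact hu.1
  rw [H_eq] at h2
  obtain ⟨c, hc, e⟩ := h2
  refine ⟨⟨c, P.mem_Zc.2 ⟨hc, funext fun i => Units.ext ?_⟩⟩, Subtype.ext (Subtype.ext e)⟩
  have h3 := h1 _ (P.xo_mem_TT (j := orb P.sι i) (v := 1) fun _ _ => by simp)
  rw [← e, κ_xo] at h3
  simpa using P.xo_inj h3 rfl

include hF in
theorem card_center : Nat.card (Subgroup.center P.TT) = Nat.card P.Zc := (Nat.card_eq_of_bijective _ (P.zc_bij hF)).symm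

include hF in
theorem not_dvd_center : ¬ p ∣ Nat.card (Subgroup.center P.TT) := by
  rw [P.card_center hF]
  exact (Nat.Prime.coprime_iff_not_dvd Fact.out).1
    (P.cop_QQ.coprime_dvd_left (Subgroup.card_dvd_of_le fun c hc => (P.mem_Zc.1 hc).1)).symm

include hF in
theorem TT_ind {K : Subgroup P.TT} (h : ∀ (j : Orb P.sι) (v : ι → k)
    (hv : ∀ i, orb P.sι i = j → v (P.sι i) = v i ^ p ^ P.f), ⟨_, P.xo_mem_TT hv⟩ ∈ K ∧ ⟨_, P.yo_mem_TT hv⟩ ∈ K) : K = ⊤ := by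
  refine eq_top_iff.2 fun g _ => ?_
  obtain ⟨s, hs, e⟩ := P.TT_le hF (K := K.map P.TT.subtype)
    (fun j v hv => ⟨⟨_, (h j v hv).1, rfl⟩, ⟨_, (h j v hv).2, rfl⟩⟩) g.2
  rwa [← Subtype.ext e]

theorem yo_pow (j : Orb P.sι) (v : ι → k) : P.yo j v ^ p = 1 := by
  have h : ∀ (n : ℕ) (g : G), D.τ (g ^ n) = D.τ g ^ n := fun n g => by
    induction n with
    | zero => rw [pow_zero, pow_zero, D.τ_one]
    | succ n ih => rw [pow_succ, D.τ_mul, ih, pow_succ']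
  rw [← τ_xo, ← h, xo_pow, D.τ_one]

include hF in
/-- the finite group is perfect if a quotient by a central subgroup is -/
theorem perfect_of {S : Type} [Group S] (hS : commutator S = ⊤) {π : P.TT →* S} (hπ : Function.Surjective π)
    (hc : π.ker ≤ Subgroup.center P.TT) : commutator P.TT = ⊤ := by
  have := P.finite_TT hF
  have h1 : ((powMonoidHom p).comp (Abelianization.of : P.TT →* _)).ker = ⊤ := P.TT_ind hF fun j v hv =>
    ⟨by rw [MonoidHom.mem_ker, MonoidHom.comp_apply, powMonoidHom_apply, ← map_pow,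
        show (⟨_, P.xo_mem_TT hv⟩ : P.TT) ^ p = 1 from Subtype.ext (P.xo_pow j v), map_one],
      by rw [MonoidHom.mem_ker, MonoidHom.comp_apply, powMonoidHom_apply, ← map_pow,
        show (⟨_, P.yo_mem_TT hv⟩ : P.TT) ^ p = 1 from Subtype.ext (P.yo_pow j v), map_one]⟩
  refine eq_top_iff.2 fun g _ => ?_
  have h2 : π g ∈ (commutator P.TT).map π := by
    rw [map_commutator_eq, MonoidHom.range_eq_top.2 hπ, ← commutator_def, hS]; trivial
  obtain ⟨s, hs, e⟩ := h2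
  have h3 : s⁻¹ * g ∈ Subgroup.center P.TT := hc (by rw [MonoidHom.mem_ker, map_mul, map_inv, e, inv_mul_cancel])
  have h4 : Abelianization.of (s⁻¹ * g) ^ p = 1 := (h1 ▸ Subgroup.mem_top (s⁻¹ * g) : _ ∈ MonoidHom.ker _)
  have h5 : Abelianization.of (s⁻¹ * g) ^ Nat.card (Subgroup.center P.TT) = 1 := by
    rw [← map_pow, show (s⁻¹ * g) ^ Nat.card (Subgroup.center P.TT) = 1 from
      congrArg Subtype.val (pow_card_eq_one' (x := (⟨_, h3⟩ : Subgroup.center P.TT))), map_one]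
  have h6 : Abelianization.of (s⁻¹ * g) = 1 :=
    (pow_gcd_eq_one.2 ⟨h4, h5⟩ |>.symm.trans (by
      rw [((Nat.Prime.coprime_iff_not_dvd Fact.out).2 (P.not_dvd_center hF)).gcd_eq_one, pow_one])).symm
  rw [← MonoidHom.mem_ker, Abelianization.ker_of] at h6
  simpa using mul_mem hs h6

/-! ### automorphisms -/

/-- diagonal * graph * field -/
def dl (c : ι → kˣ) (γ : P.Gr) (a : ℕ) : G →* G := (MulAut.conj (D.κ c)).toMonoidHom.comp (P.GF γ a)

theorem dl_apply (c : ι → kˣ) (γ : P.Gr) (a : ℕ) (g : G) : P.dl c γ a g = D.κ c * P.GF γ a g * (D.κ c)⁻¹ := rfl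

theorem GF_Fx {γ : P.Gr} (h : Commute γ P.σ) (a : ℕ) {g : G} (hg : g ∈ P.Fx) : P.GF γ a g ∈ P.Fx := by
  rw [mem_Fx, Θ_eq, ← P.GF_comm h, ← Θ_eq, P.mem_Fx.1 hg]

section dl

variable {c : ι → kˣ} {γ : P.Gr} (hc : D.Λ c ∈ P.QQ) (hγ : Commute γ P.σ) {a : ℕ}

include hc hγ

theorem dl_U {u : G} (hu : u ∈ D.U ⊓ P.Fx) : P.dl c γ a u ∈ D.U ⊓ P.Fx :=
  ⟨D.κ_conj_U c (P.GF_U γ a hu.1), P.conj_Fx hc (P.GF_Fx hγ a hu.2)⟩

theorem dl_Um {u : G} (hu : u ∈ D.Um ⊓ P.Fx) : P.dl c γ a u ∈ D.Um ⊓ P.Fx :=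
  ⟨D.κ_conj_Um c (P.GF_Um γ a hu.1), P.conj_Fx hc (P.GF_Fx hγ a hu.2)⟩

theorem dl_TT {g : G} (hg : g ∈ P.TT) : P.dl c γ a g ∈ P.TT := by
  refine (Subgroup.closure_le (K := P.TT.comap (P.dl c γ a))).2 ?_ hg
  rintro u ⟨hu | hu, hu'⟩
  · exact P.mem_TT_U (P.dl_U hc hγ ⟨hu, hu'⟩).1 (P.dl_U hc hγ ⟨hu, hu'⟩).2
  · exact P.mem_TT_Um (P.dl_Um hc hγ ⟨hu, hu'⟩).1 (P.dl_Um hc hγ ⟨hu, hu'⟩).2

omit hc hγ in
theorem dl_surj (ha : a ≤ P.f) {K : Subgroup G} [Finite K] (hK : K ≤ P.Fx) (h : ∀ g ∈ K, P.dl c γ a g ∈ K) {g : G}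
    (hg : g ∈ K) : ∃ g' ∈ K, P.dl c γ a g' = g := by
  have h1 : Function.Injective (((P.dl c γ a).comp K.subtype).codRestrict K fun x => h x x.2) := by
    rw [injective_iff_map_eq_one]
    intro x hx
    have h2 : D.κ c * P.GF γ a x * (D.κ c)⁻¹ = 1 := congrArg Subtype.val hx
    rw [mul_inv_eq_one, mul_eq_left, GF_apply, map_eq_one_iff _ (P.gr γ).injective] at h2
    refine Subtype.ext ((P.mem_Fx.1 (hK x.2)).symm.trans ?_)
    rw [Θ_apply, ← Nat.sub_add_cancel ha, Function.iterate_add_apply, h2, iterate_map_one, map_one]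
    rfl
  obtain ⟨x, hx⟩ := Finite.surjective_of_injective h1 ⟨g, hg⟩
  exact ⟨x, x.2, congrArg Subtype.val hx⟩

theorem dl_xo (i₀ : ι) (v : ι → k) : P.dl c γ a (P.xo (orb P.sι i₀) v) =
    P.xo (orb P.sι (P.gι γ i₀)) fun i => D.Λ c i * v ((P.gι γ).symm i) ^ p ^ a := by
  rw [dl_apply, P.GF_xo hγ, κ_xo]

end dl

theorem pow_inj_of_fix (j : Orb P.sι) {m n : ℕ} (hm : m < (p ^ P.f) ^ ol j) (hn : n < (p ^ P.f) ^ ol j)
    (h : ∀ a : k, a ^ (p ^ P.f) ^ ol j = a → a ^ m = a ^ n) : m = n := by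
  have h3 : ({a : k | a ^ (p ^ P.f) ^ ol j = a}).Finite := P.finite_fix j
  have h1 := Polynomial.eq_zero_of_natDegree_lt_card_of_eval_eq_zero' (Polynomial.X ^ m - Polynomial.X ^ n : Polynomial k)
    h3.toFinset (fun a ha => by simp [h a (h3.mem_toFinset.1 ha)]) (by
      rw [← Set.ncard_eq_toFinset_card _ h3, ← Nat.card_coe_set_eq]
      refine ((Polynomial.natDegree_sub_le _ _).trans_lt ?_).trans_eq (P.card_fix j).symm
      simpa using ⟨hm, hn⟩)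
  simpa using congrArg Polynomial.natDegree (sub_eq_zero.1 h1)

include hF in
/-- the standard automorphisms are distinct -/
theorem dl_inj [Nonempty ι] {c c' : ι → kˣ} {γ γ' : P.Gr} (hc : D.Λ c ∈ P.QQ) (hγ : Commute γ P.σ) (hc' : D.Λ c' ∈ P.QQ)
    (hγ' : Commute γ' P.σ) {a a' : ℕ} (ha : a < P.f) (ha' : a' < P.f) {u : G} (hu : u ∈ P.TT)
    (h : ∀ g ∈ P.TT, u * P.dl c γ a g * u⁻¹ = P.dl c' γ' a' g) :
    γ = γ' ∧ a = a' ∧ ∃ d ∈ P.QQ, u = D.κ d ∧ D.Λ d * D.Λ c = D.Λ c' := by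
  have := P.finite_TT hF
  have := P.finite_U hF
  have : Finite ↥(D.Um ⊓ P.Fx) :=
    Finite.of_injective _ (Subgroup.inclusion_injective (H := D.Um ⊓ P.Fx) (K := P.TT) fun _ h => P.mem_TT_Um h.1 h.2)
  have h1 := P.mem_H_of_norm hF hu (fun x hx => by
    obtain ⟨y, hy, rfl⟩ := P.dl_surj ha.le inf_le_right (fun _ => P.dl_U hc hγ) hx
    rw [h y (P.mem_TT_U hy.1 hy.2)]
    exact (P.dl_U hc' hγ' hy).1) fun x hx => by
    obtain ⟨y, hy, rfl⟩ := P.dl_surj ha.le inf_le_right (fun _ => P.dl_Um hc hγ) hx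
    rw [h y (P.mem_TT_Um hy.1 hy.2)]
    exact (P.dl_Um hc' hγ' hy).1
  rw [H_eq] at h1
  obtain ⟨d, hd, rfl⟩ := h1
  have hdc : D.Λ (d * c) ∈ P.QQ := by rw [map_mul]; exact mul_mem (P.Λ_QQ hd) hc
  have h2 : ∀ g ∈ P.TT, P.dl (d * c) γ a g = P.dl c' γ' a' g := fun g hg => by
    rw [← h g hg, dl_apply, dl_apply, map_mul]; group
  have h3 : ∀ i, orb P.sι (P.gι γ i) = orb P.sι (P.gι γ' i) := fun i => by
    have h4 := P.xo_mem_TT (j := orb P.sι i) (v := 1) fun _ _ => by simp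
    have h5 : ∀ {c : ι → kˣ} {γ : P.Gr}, D.Λ c ∈ P.QQ → Commute γ P.σ → ∀ a,
        P.dl c γ a (P.xo (orb P.sι i) 1) ∈ P.X (sr (orb P.sι (P.gι γ i))) := fun {c γ} hc hγ a => by
      rw [P.dl_xo hc hγ]
      exact P.mem_X_sr.2 ⟨_, fun i _ => by simp [P.mem_QQ.1 hc], rfl⟩
    refine P.orb_eq_of_xo hF (h5 hdc hγ a) (h2 _ h4 ▸ h5 hc' hγ' a') fun e => ?_
    rw [P.dl_xo hdc hγ, ← P.xo_zero (orb P.sι (P.gι γ i))] at e
    simpa using P.xo_inj e rfl
  have h4 : ∀ (i : ι) (v : ι → k), (∀ i', orb P.sι i' = orb P.sι i → v (P.sι i') = v i' ^ p ^ P.f) →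
      D.Λ (d * c) (P.gι γ i) * v i ^ p ^ a = D.Λ c' (P.gι γ i) * v ((P.gι γ').symm (P.gι γ i)) ^ p ^ a' := fun i v hv => by
    have h5 := h2 _ (P.xo_mem_TT hv)
    rw [P.dl_xo hdc hγ, P.dl_xo hc' hγ', ← h3] at h5
    simpa using P.xo_inj h5 rfl
  have h5 : D.Λ (d * c) = D.Λ c' := funext fun i => by
    obtain ⟨i, rfl⟩ := (P.gι γ).surjective i
    exact Units.ext (by simpa using h4 i 1 fun _ _ => by simp)
  have h6 : ∀ i, (P.gι γ').symm (P.gι γ i) = i ∧ a = a' := fun i => by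
    set i' := (P.gι γ').symm (P.gι γ i) with hi'
    have h7 : orb P.sι i' = orb P.sι i := by rw [← P.orb_gι hγ', hi', Equiv.apply_symm_apply, h3]
    have h8 : ∀ {e a : ℕ}, e < ol (orb P.sι i) → a < P.f → p ^ (P.f * e + a) < (p ^ P.f) ^ ol (orb P.sι i) :=
      fun {e a} he ha => by
        rw [← pow_mul]
        exact Nat.pow_lt_pow_right (Fact.out : p.Prime).one_lt (by nlinarith)
    have h9 := P.pow_inj_of_fix _ (h8 (ex_lt i) ha) (h8 (h7 ▸ ex_lt i') ha') fun b hb => by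
      have h10 := h4 i (fun l => b ^ (p ^ P.f) ^ ex P.sι l) fun l hl => tw_mk (by rw [hl, hb])
      rw [h5, mul_right_inj' (Units.ne_zero _)] at h10
      simpa only [pow_add, pow_mul] using h10
    have h10 := Nat.pow_right_injective (Fact.out : p.Prime).two_le h9
    have h11 := congrArg (· % P.f) h10
    simp only [Nat.mul_add_mod, Nat.mod_eq_of_lt ha, Nat.mod_eq_of_lt ha'] at h11
    refine ⟨?_, h11⟩
    rw [← pow_ex (σ := P.sι) i', h7, ← Nat.eq_of_mul_eq_mul_left P.f_pos (by omega : P.f * ex P.sι i = P.f * ex P.sι i'),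
      pow_ex]
  refine ⟨P.gι_inj (Equiv.ext fun i => ?_), (h6 (Classical.arbitrary ι)).2, d, hd, rfl, by rw [← map_mul, h5]⟩
  rw [← (Equiv.symm_apply_eq _).1 (h6 i).1]

include hF in
/-- **the automorphisms of the simple group, by counting** -/
theorem aut_of_card {S : Type} [Group S] (hS : IsSimpleGroup S) (hn : ¬ IsMulCommutative S) {π : P.TT →* S}
    (hπ : Function.Surjective π) (hc : π.ker ≤ Subgroup.center P.TT)
    (hA : Nat.card (MulAut S) ≤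
      Nat.card P.Zc * Nat.card (Subgroup.centralizer ({P.σ} : Set P.Gr)) * P.f * Nat.card S) (α : MulAut S) :
    ∃ (s : P.TT) (c : ι → kˣ) (γ : P.Gr) (a : ℕ), Commute γ P.σ ∧
      ∀ s₁ : P.TT, ∃ s₂ : P.TT, (s₂ : G) = P.dl c γ a s₁ ∧ α (π s₁) = π (s * s₂ * s⁻¹) := by
  have := P.finite_TT hF
  have := P.finite_QQ
  have : Finite S := Finite.of_surjective _ hπ
  have hk := ker_eq_center hS hn hπ hc
  have hT := P.perfect_of hF (perfect_of_simple hS hn) hπ hc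
  have : Nonempty ι := by
    by_contra h
    have h1 : (⊥ : Subgroup P.TT) = ⊤ := P.TT_ind hF fun j _ _ => (h ⟨rp j⟩).elim
    refine hn ⟨⟨fun a b => ?_⟩⟩
    obtain ⟨a, rfl⟩ := hπ a
    rw [Subgroup.mem_bot.1 (h1.ge (Subgroup.mem_top a)), map_one, one_mul, mul_one]
  let φ : P.QQ →* P.QQ := (D.Λ.comp P.QQ.subtype).codRestrict P.QQ fun c => P.Λ_QQ c.2
  have hφ : Nat.card (P.QQ ⧸ φ.range) = Nat.card P.Zc := by
    rw [← Subgroup.index, index_range_eq]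
    refine Nat.card_eq_of_bijective (fun x => ⟨x.1.1, P.mem_Zc.2 ⟨x.1.2, congrArg Subtype.val x.2⟩⟩)
      ⟨fun x y h => Subtype.ext (Subtype.ext (congrArg (fun z : P.Zc => z.1) h)), fun c => ?_⟩
    exact ⟨⟨⟨c.1, (P.mem_Zc.1 c.2).1⟩, Subtype.ext (P.mem_Zc.1 c.2).2⟩, rfl⟩
  choose sx hsx using hπ
  choose cx hcx using fun q : P.QQ ⧸ φ.range => D.Λ_surj (q.out : P.QQ)
  have hcx' : ∀ q, D.Λ (cx q) ∈ P.QQ := fun q => hcx q ▸ (q.out : P.QQ).2
  have hγ : ∀ γ : Subgroup.centralizer ({P.σ} : Set P.Gr), Commute γ.1 P.σ := fun γ =>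
    Subgroup.mem_centralizer_singleton_iff.1 γ.2
  let δ : (P.QQ ⧸ φ.range) → Subgroup.centralizer ({P.σ} : Set P.Gr) → Fin P.f → P.TT →* P.TT := fun q γ a =>
    ((P.dl (cx q) γ a).comp P.TT.subtype).codRestrict P.TT fun g => P.dl_TT (hcx' q) (hγ γ) g.2
  have hδ : ∀ q γ a, Function.Surjective (δ q γ a) := fun q γ a g => by
    obtain ⟨g', hg', e⟩ := P.dl_surj (c := cx q) (γ := γ) a.2.le P.TT_le_Fx (fun _ => P.dl_TT (hcx' q) (hγ γ)) g.2
    exact ⟨⟨g', hg'⟩, Subtype.ext e⟩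
  choose F hF' using fun x : (((P.QQ ⧸ φ.range) × Subgroup.centralizer ({P.σ} : Set P.Gr)) × Fin P.f) × S =>
    exists_ind (fun y => ⟨_, hsx y⟩) hk (β := (MulAut.conj (sx x.2)).toMonoidHom.comp (δ x.1.1.1 x.1.1.2 x.1.2))
      ((MulAut.conj (sx x.2)).surjective.comp (hδ _ _ _))
  have hinj : Function.Injective F := by
    rintro ⟨⟨⟨q, γ⟩, a⟩, x⟩ ⟨⟨⟨q', γ'⟩, a'⟩, x'⟩ e
    have h1 := hom_eq_of_perfect hT hc fun s =>
      (hF' (((q, γ), a), x) s).symm.trans (e ▸ hF' (((q', γ'), a'), x') s)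
    obtain ⟨h2, h3, d, hd, h4, h5⟩ := P.dl_inj hF (hcx' q) (hγ γ) (hcx' q') (hγ γ') a.2 a'.2 ((sx x')⁻¹ * sx x).2
      fun g hg => by
        have h2 : (sx x : G) * P.dl (cx q) γ a g * (sx x : G)⁻¹ = sx x' * P.dl (cx q') γ' a' g * (sx x' : G)⁻¹ :=
          congrArg Subtype.val (h1 ⟨g, hg⟩)
        rw [Subgroup.coe_mul, Subgroup.coe_inv, eq_inv_mul_of_mul_eq (eq_mul_of_mul_inv_eq h2.symm)]
        group
    have h6 : q = q' := by
      rw [← q.out_eq, ← q'.out_eq]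
      refine QuotientGroup.eq.2 ⟨⟨d, hd⟩, Subtype.ext ?_⟩
      rw [hcx, hcx] at h5
      rw [Subgroup.coe_mul, Subgroup.coe_inv, ← h5, mul_comm (D.Λ d), inv_mul_cancel_left]
      rfl
    subst h6
    have h7 : (sx x')⁻¹ * sx x ∈ π.ker := by
      rw [hk, Subgroup.mem_center_iff]
      intro g
      refine Subtype.ext ?_
      rw [Subgroup.coe_mul, Subgroup.coe_mul _ _ g, h4]
      exact (D.κ_central (fun i => congrFun (mul_eq_right.1 h5) i) g).symm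
    rw [MonoidHom.mem_ker, map_mul, map_inv, hsx, hsx, inv_mul_eq_one] at h7
    rw [Subtype.ext h2, Fin.ext h3, h7]
  obtain ⟨x, rfl⟩ := ((Nat.bijective_iff_injective_and_card F).2 ⟨hinj, le_antisymm (Nat.card_le_card_of_injective F hinj)
    (by rwa [Nat.card_prod, Nat.card_prod, Nat.card_prod, hφ, Nat.card_eq_fintype_card (α := Fin _), Fintype.card_fin])⟩).2 α
  exact ⟨sx x.2, cx x.1.1.1, x.1.1.2, x.1.2, hγ _, fun s => ⟨δ _ _ _ s, rfl, hF' x s⟩⟩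

end Tws

end Cfsg.Agent.TwoF.DC
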