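import Cfsg.Agent.H564.TWP.Low

/-!
# TwoF, defining characteristic: the lowest component for classes of roots of any size (helper7)

`low_cls` : the elements `z b (c a) * ∏ z b' (c' a ^ E')`, `q ≤ E' ≤ Q`, `a` in a set with at least `q Q` elements.
-/

set_option autoImplicit false
set_option linter.unusedSectionVars false

namespace Cfsg.Agent.TwoF.DC.Low

open Finset Cfsg.Agent.H45.Uni Cfsg.Agent.H45.UniE

variable {ι Φ k G : Type*} [Field k] [Group G] [Infinite k] (D : DatR ι Φ k G)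

theorem exists_wt (A : Finset k) (d : ℕ) :
    ∃ w : k → k, ∀ E < A.card, ∑ a ∈ A, w a * a ^ E = if E = d then 1 else 0 := by
  classical
  refine ⟨fun a => (Lagrange.basis A id a).coeff d, fun E hE => ?_⟩
  have h := Lagrange.eq_interpolate (s := A) (v := id) (f := (Polynomial.X ^ E : Polynomial k)) (Set.injOn_id _)
    (by rw [Polynomial.degree_X_pow]; exact_mod_cast hE)
  have h1 := congrArg (fun P : Polynomial k => P.coeff d) h
  simp only [Lagrange.interpolate_apply, Polynomial.finsetSum_coeff, Polynomial.coeff_C_mul, Polynomial.eval_pow,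
    Polynomial.eval_X, id, Polynomial.coeff_X_pow] at h1
  simp only [eq_comm (a := E), h1, mul_comm]

theorem RR_z {F : G → k} (hF : F ∈ D.L) (b : Φ) (s : k) :
    RR (D.z b s) F = ∑ r ∈ range (D.N + 1), s ^ r • D.X b r F := by
  funext g
  rw [RR_apply, D.expand_z hF, Finset.sum_apply]
  exact Finset.sum_congr rfl fun r _ => by rw [Pi.smul_apply, smul_eq_mul, mul_comm]

/-- the span of the terms of high degree -/
def Sp (η q Q : ℕ) (h : ℤ) : Submodule k (k → G → k) :=
  Submodule.span k {Ψ | ∃ (j E : ℕ) (F : G → k), F ∈ D.L ∧ D.Hom (h + (η * j : ℕ)) F ∧ q ≤ E ∧ E ≤ j * Q ∧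
    Ψ = fun a => a ^ E • F}

variable {D} {η q Q : ℕ} {h : ℤ}

theorem term_mem {b : Φ} (hb : D.ht b = η) (c : k) {j E E' r : ℕ} {F : G → k} (hF : F ∈ D.L)
    (hh : D.Hom (h + (η * j : ℕ)) F) (h1 : q ≤ E + E' * r) (h2 : E ≤ j * Q) (h3 : E' ≤ Q) :
    (fun a : k => a ^ E • (c * a ^ E') ^ r • D.X b r F) ∈ Sp D η q Q h := by
  have h4 : (fun a : k => a ^ E • (c * a ^ E') ^ r • D.X b r F) = c ^ r • fun a : k => a ^ (E + E' * r) • D.X b r F := by
    funext a
    rw [Pi.smul_apply, smul_smul, smul_smul, mul_pow, pow_add, pow_mul]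
    congr 1
    ring
  rw [h4]
  refine Submodule.smul_mem _ _ (Submodule.subset_span ⟨j + r, _, _, D.X_mem b r hF, ?_, h1, ?_, rfl⟩)
  · have h5 := D.hom_X hF hh b r
    rwa [hb, add_assoc, ← Nat.cast_add, ← mul_add] at h5
  · nlinarith [Nat.mul_le_mul_right r h3]

theorem step {b : Φ} (hb : D.ht b = η) (c : k) {E' : ℕ} (h3 : E' ≤ Q) {Ψ : k → G → k} (hΨ : Ψ ∈ Sp D η q Q h) :
    (fun a => RR (D.z b (c * a ^ E')) (Ψ a)) ∈ Sp D η q Q h := by
  induction hΨ using Submodule.span_induction with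
  | mem Ψ hΨ =>
    obtain ⟨j, E, F, hF, hh, h1, h2, rfl⟩ := hΨ
    have h4 : (fun a : k => RR (D.z b (c * a ^ E')) (a ^ E • F)) =
        ∑ r ∈ range (D.N + 1), fun a : k => a ^ E • (c * a ^ E') ^ r • D.X b r F := by
      funext a
      rw [map_smul, RR_z D hF, Finset.smul_sum, Finset.sum_apply]
    rw [h4]
    exact Submodule.sum_mem _ fun r _ => term_mem hb c hF hh (h1.trans (Nat.le_add_right _ _)) h2 h3
  | zero => simp only [Pi.zero_apply, map_zero]; exact (Sp D η q Q h).zero_mem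
  | add Ψ Ψ' _ _ h1 h2 => simp only [Pi.add_apply, map_add]; exact (Sp D η q Q h).add_mem h1 h2
  | smul c Ψ _ h1 => simp only [Pi.smul_apply, map_smul]; exact (Sp D η q Q h).smul_mem c h1

theorem step0 {b : Φ} (hb : D.ht b = η) (c : k) {E' : ℕ} (h1 : q ≤ E') (h3 : E' ≤ Q) {F : G → k} (hF : F ∈ D.L)
    (hh : D.Hom h F) : (fun a => RR (D.z b (c * a ^ E')) F - F) ∈ Sp D η q Q h := by
  have h4 : (fun a : k => RR (D.z b (c * a ^ E')) F - F) =
      ∑ r ∈ range D.N, fun a : k => a ^ 0 • (c * a ^ E') ^ (r + 1) • D.X b (r + 1) F := by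
    funext a
    rw [RR_z D hF, Finset.sum_range_succ', pow_zero, one_smul, D.X_zero hF, add_sub_cancel_right, Finset.sum_apply]
    simp only [pow_zero, one_smul]
  rw [h4]
  exact Submodule.sum_mem _ fun r _ => term_mem (j := 0) hb c hF (by simpa using hh) (by nlinarith) (by simp) h3

theorem list_mem {l : List (Φ × k × ℕ)} (hl : ∀ e ∈ l, D.ht e.1 = η ∧ q ≤ e.2.2 ∧ e.2.2 ≤ Q) {F : G → k} (hF : F ∈ D.L)
    (hh : D.Hom h F) :
    (fun a => RR (l.map fun e => D.z e.1 (e.2.1 * a ^ e.2.2)).prod F - F) ∈ Sp D η q Q h := by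
  induction l with
  | nil => simp only [List.map_nil, List.prod_nil, RR_one, sub_self]; exact (Sp D η q Q h).zero_mem
  | cons e l ih =>
    obtain ⟨h1, h2, h3⟩ := hl e List.mem_cons_self
    have h4 := (Sp D η q Q h).add_mem (step h1 e.2.1 h3 (ih fun e' he' => hl e' (List.mem_cons_of_mem _ he')))
      (step0 h1 e.2.1 h2 h3 hF hh)
    convert h4 using 1
    funext a
    rw [List.map_cons, List.prod_cons, RR_mul, Pi.add_apply, map_sub, sub_add_sub_cancel]

/-- **the lowest component** -/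
theorem low_cls {A : Finset k} (hA : q * Q ≤ A.card) (hQ : 0 < Q) {b : Φ} {c : k} (hc : c ≠ 0) {l : List (Φ × k × ℕ)}
    (hl : ∀ e ∈ l, D.ht e.1 = D.ht b ∧ q ≤ e.2.2 ∧ e.2.2 ≤ Q) {F : G → k} (hF : F ∈ D.L)
    (hfix : ∀ a ∈ A, RR (D.z b (c * a) * (l.map fun e => D.z e.1 (e.2.1 * a ^ e.2.2)).prod) F = F) {n : ℕ}
    (hlow : ∀ m < n, D.H m F = 0) {d : ℕ} (hd0 : 0 < d) (hdq : d < q) : D.X b d (D.H n F) = 0 := by
  obtain ⟨w, hw⟩ := exists_wt A d
  have hη := D.ht_pos b
  have hqA : q ≤ A.card := (Nat.le_mul_of_pos_right q hQ).trans hA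
  let Λ : (k → G → k) →ₗ[k] (G → k) := (D.H (n + D.ht b * d)).comp (∑ a ∈ A, w a • LinearMap.proj a)
  have hΛ : ∀ (E : ℕ) (F' : G → k), Λ (fun a => a ^ E • F') = (∑ a ∈ A, w a * a ^ E) • D.H (n + D.ht b * d) F' := by
    intro E F'
    simp only [Λ, LinearMap.comp_apply, LinearMap.sum_apply, LinearMap.smul_apply, LinearMap.proj_apply, smul_smul,
      ← Finset.sum_smul, map_smul]
  have hkill : ∀ (m j E : ℕ) (F' : G → k), n ≤ m → F' ∈ D.L → D.Hom ((m : ℤ) - D.M + (D.ht b * j : ℕ)) F' →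
      E ≤ j * Q → E ≠ d → Λ (fun a => a ^ E • F') = 0 := by
    intro m j E F' hm hF' hh h2 h3
    rw [hΛ]
    by_cases h4 : n + D.ht b * d = m + D.ht b * j
    · have h5 : j ≤ d := Nat.le_of_mul_le_mul_left (by omega) hη
      rw [hw E (by nlinarith), if_neg h3, zero_smul]
    · rw [D.H_of_hom hF' hh _ (by push_cast; intro e; apply h4; zify; linarith), smul_zero]
  have hSp : ∀ m : ℕ, n ≤ m → ∀ Ψ ∈ Sp D (D.ht b) q Q ((m : ℤ) - D.M), Λ Ψ = 0 := by
    intro m hm Ψ hΨ
    refine (Submodule.span_le (p := LinearMap.ker Λ)).2 ?_ hΨ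
    rintro _ ⟨j, E, F', hF', hh, h1, h2, rfl⟩
    exact hkill m j E F' hm hF' hh h2 (by omega)
  have hterm : ∀ m, Λ (fun a => RR (D.z b (c * a) * (l.map fun e => D.z e.1 (e.2.1 * a ^ e.2.2)).prod) (D.H m F) -
      D.H m F) = if m = n then c ^ d • D.H (n + D.ht b * d) (∑ r ∈ range (D.N + 1), if r = d then D.X b r (D.H n F) else 0)
        else 0 := by
    intro m
    rcases lt_or_ge m n with hm | hm
    · rw [if_neg hm.ne, hlow m hm]
      simp only [map_zero, sub_self]
      exact map_zero Λ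
    have hFm := D.H_mem m hF
    have hhm := D.hom_H m hF
    have h1 := hSp m hm _ (step rfl c (E' := 1) hQ (list_mem hl hFm hhm))
    have h2 := hkill m 0 0 _ hm hFm (by simpa using hhm) (by simp) hd0.ne
    have h3 : (fun a => RR (D.z b (c * a) * (l.map fun e => D.z e.1 (e.2.1 * a ^ e.2.2)).prod) (D.H m F) - D.H m F) =
        (fun a => RR (D.z b (c * a ^ 1)) (RR (l.map fun e => D.z e.1 (e.2.1 * a ^ e.2.2)).prod (D.H m F) - D.H m F)) +
          (∑ r ∈ range (D.N + 1), c ^ r • fun a : k => a ^ r • D.X b r (D.H m F)) - fun a : k => a ^ 0 • D.H m F := by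
      funext a
      rw [Pi.sub_apply, Pi.add_apply, map_sub, RR_mul, pow_one, RR_z D hFm, Finset.sum_apply, pow_zero, one_smul]
      simp only [Pi.smul_apply, smul_smul, mul_pow, sub_add_cancel]
    rw [h3, map_sub, map_add, h1, h2, zero_add, sub_zero, map_sum]
    have h4 : ∀ r, Λ (c ^ r • fun a : k => a ^ r • D.X b r (D.H m F)) =
        if m = n then c ^ d • D.H (n + D.ht b * d) (if r = d then D.X b r (D.H n F) else 0) else 0 := by
      intro r
      rw [map_smul]
      by_cases hr : r = d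
      · subst hr
        rw [hΛ, hw r (by omega), if_pos rfl, if_pos rfl, one_smul]
        split_ifs with h5
        · rw [h5]
        · rw [D.H_of_hom (D.X_mem b r hFm) (D.hom_X hFm hhm b r) _ (by push_cast; intro e; apply h5; zify; linarith),
            smul_zero]
      · rw [hkill m r r _ hm (D.X_mem b r hFm) (D.hom_X hFm hhm b r) (Nat.le_mul_of_pos_right r hQ) hr, if_neg hr]
        simp
    simp only [h4]
    split_ifs
    · rw [map_sum, Finset.smul_sum]
    · exact Finset.sum_const_zero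
  have htot : Λ (fun a => RR (D.z b (c * a) * (l.map fun e => D.z e.1 (e.2.1 * a ^ e.2.2)).prod) F - F) = 0 := by
    simp only [Λ, LinearMap.comp_apply, LinearMap.sum_apply, LinearMap.smul_apply, LinearMap.proj_apply]
    rw [Finset.sum_eq_zero fun a ha => by rw [hfix a ha, sub_self, smul_zero], map_zero]
  have hsum : (fun a => RR (D.z b (c * a) * (l.map fun e => D.z e.1 (e.2.1 * a ^ e.2.2)).prod) F - F) =
      ∑ m ∈ range (D.N + 1), fun a =>
        RR (D.z b (c * a) * (l.map fun e => D.z e.1 (e.2.1 * a ^ e.2.2)).prod) (D.H m F) - D.H m F := by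
    funext a
    rw [Finset.sum_apply, Finset.sum_sub_distrib, ← map_sum, D.sum_H hF]
  rw [hsum, map_sum] at htot
  simp only [hterm, Finset.sum_ite_eq'] at htot
  have hFn := D.H_mem n hF
  have hX := D.hom_X hFn (D.hom_H n hF) b d
  by_contra h0
  obtain ⟨n', hn', e⟩ := D.hom_range (D.X_mem b d hFn) hX h0
  have h1 : n + D.ht b * d ≤ D.N := by zify at hn' ⊢; push_cast at e; linarith
  have h2 : d ≤ D.ht b * d := Nat.le_mul_of_pos_left d hη
  rw [if_pos (mem_range.2 (by omega)), if_pos (mem_range.2 (by omega)),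
    D.H_self (D.X_mem b d hFn) (by convert hX using 1; push_cast; ring) h1] at htot
  exact h0 ((smul_eq_zero.1 htot).resolve_left (pow_ne_zero _ hc))

end Cfsg.Agent.TwoF.DC.Low
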