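import Cfsg.Agent.TwoF.DC.Fin.Defs
import Cfsg.Agent.TwoF.DC.HW.Ext
import Cfsg.Agent.Nodes.RGDTwGen

/-!
# TwoF, defining characteristic: the finite groups, relative roots (helper7)

* `Orb σ` the orbits of a permutation of the nodes, `orb`, `rp`, `ol` (length), `ex` (position in the orbit);
* `RC.rA`, `RC.rM` : relative Cartan and Coxeter matrices, `RC.isCartan`;
* `RC.rv` : the restriction of a root, `RC.isRoot_iff`, `RC.finite_W`.
-/

set_option autoImplicit false
set_option linter.unusedSectionVars false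

namespace Cfsg.Agent.TwoF.DC

open Finset CoxeterSystem Cfsg.Agent.ChevalleyStructure.CoxeterGeom Cfsg.Agent.Tits.Roots

/-! ### orbits -/

section orb

variable {ι : Type} [Fintype ι] [DecidableEq ι] (σ : Equiv.Perm ι)

/-- the orbits of `σ` -/
def Orb : Type := Quotient (Equiv.Perm.SameCycle.setoid σ)

/-- the orbit of a node -/
def orb (i : ι) : Orb σ := Quotient.mk _ i

noncomputable instance instDecEqOrb : DecidableEq (Orb σ) := Classical.decEq _

noncomputable instance instFintypeOrb : Fintype (Orb σ) :=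
  Fintype.ofSurjective (orb σ) fun j => Quotient.exists_rep j

variable {σ}

/-- a representative -/
noncomputable def rp (j : Orb σ) : ι := Quotient.out j

theorem orb_rp (j : Orb σ) : orb σ (rp j) = j := Quotient.out_eq j

theorem orb_eq_iff {i i' : ι} : orb σ i = orb σ i' ↔ σ.SameCycle i i' := Quotient.eq

theorem orb_pow (m : ℕ) (i : ι) : orb σ ((σ ^ m) i) = orb σ i :=
  orb_eq_iff.2 (Equiv.Perm.SameCycle.symm ⟨m, by rw [zpow_natCast]⟩)

theorem orb_apply (i : ι) : orb σ (σ i) = orb σ i := by simpa using orb_pow (σ := σ) 1 i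

theorem orb_symm (i : ι) : orb σ (σ.symm i) = orb σ i := by rw [← orb_apply, Equiv.apply_symm_apply]

theorem exists_pow_of_orb {i i' : ι} (h : orb σ i = orb σ i') : ∃ m : ℕ, (σ ^ m) i = i' := by
  obtain ⟨m, -, hm⟩ := (orb_eq_iff.1 h).exists_pow_eq'
  exact ⟨m, hm⟩

/-- a function which is invariant under `σ` is constant on the orbits -/
theorem eq_of_orb {α : Type*} {g : ι → α} (hg : ∀ i, g (σ i) = g i) {i i' : ι} (h : orb σ i = orb σ i') :
    g i = g i' := by
  obtain ⟨m, rfl⟩ := exists_pow_of_orb h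
  clear h
  induction m with
  | zero => rfl
  | succ m ih => rw [pow_succ', Equiv.Perm.mul_apply, hg, ih]

/-- the length of an orbit -/
noncomputable def ol (j : Orb σ) : ℕ := Function.minimalPeriod σ (rp j)

theorem ol_pos (j : Orb σ) : 0 < ol j :=
  Function.minimalPeriod_pos_of_mem_periodicPts (σ.injective.mem_periodicPts _)

theorem pow_ol (j : Orb σ) : (σ ^ ol j) (rp j) = rp j := by
  rw [Equiv.Perm.coe_pow]
  exact Function.iterate_minimalPeriod

theorem pow_mod_ol (j : Orb σ) (m : ℕ) : (σ ^ (m % ol j)) (rp j) = (σ ^ m) (rp j) := by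
  rw [Equiv.Perm.coe_pow, Equiv.Perm.coe_pow]
  exact Function.iterate_mod_minimalPeriod_eq

theorem pow_inj_ol (j : Orb σ) {m m' : ℕ} (hm : m < ol j) (hm' : m' < ol j)
    (h : (σ ^ m) (rp j) = (σ ^ m') (rp j)) : m = m' := by
  rw [Equiv.Perm.coe_pow, Equiv.Perm.coe_pow] at h
  exact (Function.iterate_eq_iterate_iff_of_lt_minimalPeriod hm hm').1 h

theorem exists_ex (i : ι) : ∃ m < ol (orb σ i), (σ ^ m) (rp (orb σ i)) = i := by
  obtain ⟨m, hm⟩ := exists_pow_of_orb (orb_rp (orb σ i))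
  exact ⟨m % ol (orb σ i), Nat.mod_lt _ (ol_pos _), by rw [pow_mod_ol, hm]⟩

variable (σ) in
/-- the position of a node in its orbit -/
noncomputable def ex (i : ι) : ℕ := (exists_ex (σ := σ) i).choose

theorem ex_lt (i : ι) : ex σ i < ol (orb σ i) := (exists_ex (σ := σ) i).choose_spec.1

theorem pow_ex (i : ι) : (σ ^ ex σ i) (rp (orb σ i)) = i := (exists_ex (σ := σ) i).choose_spec.2

theorem ex_pow (j : Orb σ) {m : ℕ} (hm : m < ol j) : ex σ ((σ ^ m) (rp j)) = m := by
  have h1 := ex_lt (σ := σ) ((σ ^ m) (rp j))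
  have h2 := pow_ex (σ := σ) ((σ ^ m) (rp j))
  rw [orb_pow, orb_rp] at h1 h2
  exact pow_inj_ol j h1 hm h2

theorem ex_rp (j : Orb σ) : ex σ (rp j) = 0 := by simpa using ex_pow j (ol_pos j)

theorem ex_apply (i : ι) : ex σ (σ i) = ex σ i + 1 ∨ (ex σ (σ i) = 0 ∧ ex σ i + 1 = ol (orb σ i)) := by
  have h1 : σ i = (σ ^ (ex σ i + 1)) (rp (orb σ i)) := by rw [pow_succ', Equiv.Perm.mul_apply, pow_ex]
  rcases (Nat.succ_le_of_lt (ex_lt (σ := σ) i)).lt_or_eq with h | h
  · exact Or.inl (by rw [h1, ex_pow _ h])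
  · exact Or.inr ⟨by rw [h1, show ex σ i + 1 = ol (orb σ i) from h, pow_ol, ex_rp], h⟩

/-- the nodes of an orbit -/
noncomputable def oset (j : Orb σ) : Finset ι := univ.filter fun i => orb σ i = j

theorem mem_oset {j : Orb σ} {i : ι} : i ∈ oset j ↔ orb σ i = j := by simp [oset]

theorem rp_mem (j : Orb σ) : rp j ∈ oset j := mem_oset.2 (orb_rp j)

theorem sum_oset {α : Type*} [AddCommMonoid α] (j : Orb σ) (g : ℕ → α) :
    ∑ i ∈ oset j, g (ex σ i) = ∑ m ∈ range (ol j), g m := by
  refine Finset.sum_bij' (fun i _ => ex σ i) (fun m _ => (σ ^ m) (rp j)) ?_ ?_ ?_ ?_ ?_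
  · intro i hi
    rw [mem_range, ← mem_oset.1 hi]
    exact ex_lt i
  · intro m _
    rw [mem_oset, orb_pow, orb_rp]
  · intro i hi
    rw [← mem_oset.1 hi, pow_ex]
  · intro m hm
    exact ex_pow j (mem_range.1 hm)
  · intro i _
    rfl

theorem card_oset (j : Orb σ) : (oset j).card = ol j := by
  have h := sum_oset j (fun _ => 1)
  simpa using h

theorem sum_oset_comp {α : Type*} [AddCommMonoid α] (j : Orb σ) (g : ι → α) :
    ∑ i ∈ oset j, g (σ i) = ∑ i ∈ oset j, g i :=
  Finset.sum_equiv σ (fun i => by rw [mem_oset, mem_oset, orb_apply]) fun _ _ => rfl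

/-- twisted vectors are determined by one coordinate -/
theorem tw_eq {M : Type*} [Monoid M] {q : ℕ} {v : ι → M} (hv : ∀ i, v (σ i) = v i ^ q) (m : ℕ) (i : ι) :
    v ((σ ^ m) i) = v i ^ q ^ m := by
  induction m with
  | zero => simp
  | succ m ih => rw [pow_succ', Equiv.Perm.mul_apply, hv, ih, ← pow_mul, ← pow_succ]

theorem tw_ex {M : Type*} [Monoid M] {q : ℕ} {v : ι → M} (hv : ∀ i, v (σ i) = v i ^ q) (i : ι) :
    v i = v (rp (orb σ i)) ^ q ^ ex σ i := by rw [← tw_eq hv, pow_ex]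

theorem tw_ol {M : Type*} [Monoid M] {q : ℕ} {v : ι → M} (hv : ∀ i, v (σ i) = v i ^ q) (j : Orb σ) :
    v (rp j) ^ q ^ ol j = v (rp j) := by rw [← tw_eq hv, pow_ol]

theorem tw_mk {M : Type*} [Monoid M] {q : ℕ} {a : M} {i : ι} (ha : a ^ q ^ ol (orb σ i) = a) :
    a ^ q ^ ex σ (σ i) = (a ^ q ^ ex σ i) ^ q := by
  rw [← pow_mul, ← pow_succ]
  rcases ex_apply (σ := σ) i with h | ⟨h, h'⟩
  · rw [h]
  · rw [h, h', ha, pow_zero, pow_one]

variable (σ) in
/-- the restriction of a vector -/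
noncomputable def res : (ι → ℤ) →ₗ[ℤ] (Orb σ → ℤ) where
  toFun c j := ∑ i ∈ oset j, c i
  map_add' c d := by funext j; simp [Finset.sum_add_distrib]
  map_smul' n c := by funext j; simp [Finset.mul_sum]

theorem res_apply (c : ι → ℤ) (j : Orb σ) : res σ c j = ∑ i ∈ oset j, c i := rfl

theorem res_single (i : ι) (n : ℤ) : res σ (Pi.single i n) = n • sr (orb σ i) := by
  funext j
  rw [res_apply, Finset.sum_pi_single', Pi.smul_apply, sr, Pi.single_apply, smul_eq_mul]
  simp only [mem_oset, eq_comm (a := j)]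
  split_ifs <;> simp

theorem res_comp (c : ι → ℤ) : res σ (c ∘ σ) = res σ c := funext fun j => sum_oset_comp j c

theorem sum_res {g : Orb σ → ℤ} (c : ι → ℤ) : ∑ j, g j * res σ c j = ∑ i, g (orb σ i) * c i := by
  simp only [res_apply, Finset.mul_sum]
  rw [← Finset.sum_fiberwise (s := univ) (g := orb σ)]
  exact Finset.sum_congr rfl fun j _ => Finset.sum_congr rfl fun i hi => by rw [mem_oset.1 hi]

theorem res_nonneg {c : ι → ℤ} (h : 0 ≤ c) : 0 ≤ res σ c := fun _ => Finset.sum_nonneg fun i _ => h i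

theorem eq_zero_of_res {c : ι → ℤ} (h : 0 ≤ c) {i : ι} (h0 : res σ c (orb σ i) = 0) : c i = 0 :=
  (Finset.sum_eq_zero_iff_of_nonneg fun i _ => h i).1 h0 i (mem_oset.2 rfl)

end orb

namespace RC

variable {ι Φ : Type} [Fintype ι] [DecidableEq ι] [Fintype Φ] [DecidableEq Φ] (R : RC ι Φ)

/-! ### the Cartan matrix -/

theorem C_zero_symm {i j : ι} (h : R.C i j = 0) : R.C j i = 0 := by
  have hij : i ≠ j := by rintro rfl; rw [R.C_self] at h; cases h
  have hne : R.zi j ≠ R.zi i := fun e => hij (R.zi_inj e).symm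
  have h1 : R.s i (R.zi j) = R.zi j := by
    apply R.cf_inj
    funext l
    have h2 := R.cf_s i (R.zi j) hne l
    simp only [R.cf_zi, Pi.single_apply, Nat.cast_ite, Nat.cast_one, Nat.cast_zero, mul_ite, mul_one, mul_zero,
      Finset.sum_ite_eq', mem_univ, if_true, h, ite_self, sub_zero] at h2
    rw [R.cf_zi, Pi.single_apply]
    split_ifs at h2 ⊢ <;> exact_mod_cast h2
  have h2 := R.co_s i (R.zi j) hne i
  rw [h1, if_pos rfl, R.co_zi] at h2
  simp only [Pi.single_apply, Nat.cast_ite, Nat.cast_one, Nat.cast_zero, ite_mul, one_mul, zero_mul,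
    Finset.sum_ite_eq', mem_univ, if_true] at h2
  omega

/-- positive definiteness, in the form which is needed -/
theorem eq_zero_of_toWt_nonpos {c : ι → ℤ} (h0 : 0 ≤ c) (h : ∀ i, R.toWt c i ≤ 0) : c = 0 := by
  obtain ⟨l, hl⟩ := R.exists_w0
  have hc : c = fun i => ((fun i => (c i).toNat) i : ℤ) := funext fun i => (Int.toNat_of_nonneg (h0 i)).symm
  have hd : Dom (-R.toWt c) := fun i => by simpa using h i
  obtain ⟨d, hd'⟩ := R.swl_dom hd l
  rw [swl_neg, ← toWt_svl, ← toWt_neg, ← toWt_neg, ← toWt_sub] at hd'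
  have h1 := R.toWt_inj hd'
  funext i
  have h2 := congrFun h1 i
  have h3 := R.svl_w0_nonpos hl (fun i => (c i).toNat) i
  rw [← hc] at h3
  have h4 := h0 i
  simp only [Pi.neg_apply, Pi.sub_apply, Pi.zero_apply] at h2 h4 ⊢
  omega

theorem exists_adj : ∃ (N : ℕ) (B : ι → ι → ℤ), 0 < N ∧ ∀ l i, ∑ j, B l j * R.C j i = if l = i then (N : ℤ) else 0 := by
  let A : Matrix ι ι ℤ := Matrix.of R.C
  have hdet : A.det ≠ 0 := by
    intro h
    obtain ⟨v, hv, hv'⟩ := Matrix.exists_mulVec_eq_zero_iff.2 h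
    exact hv (R.C_inj v fun i => congrFun hv' i)
  refine ⟨A.det.natAbs, fun l j => A.det.sign * A.adjugate l j, Int.natAbs_pos.2 hdet, fun l i => ?_⟩
  have h1 := congrFun (congrFun (Matrix.adjugate_mul A) l) i
  rw [Matrix.mul_apply, Matrix.smul_apply, Matrix.one_apply, smul_eq_mul] at h1
  simp only [mul_assoc]
  rw [← Finset.mul_sum]
  erw [h1]
  split_ifs
  · rw [mul_one, Int.sign_mul_self_eq_natAbs]
  · simp

/-! ### the relative Cartan matrix -/

/-- a symmetry with orthogonal orbits -/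
structure OSym (σ : Equiv.Perm ι) (θ : Equiv.Perm Φ) : Prop extends R.Sym σ θ where
  orth : ∀ i i', σ.SameCycle i i' → i ≠ i' → R.C i i' = 0

variable (σ : Equiv.Perm ι)

/-- the relative Cartan matrix -/
noncomputable def rA (j j' : Orb σ) : ℤ := ∑ i ∈ oset j, R.C i (rp j')

/-- the relative Coxeter matrix -/
noncomputable def rM : CoxeterMatrix (Orb σ) where
  M := Matrix.of fun j j' => if j = j' then 1 else if R.rA σ j j' * R.rA σ j' j = 0 then 2
    else if R.rA σ j j' * R.rA σ j' j = 1 then 3 else if R.rA σ j j' * R.rA σ j' j = 2 then 4 else 6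
  isSymm := by
    ext j j'
    simp only [Matrix.transpose_apply, Matrix.of_apply, eq_comm (a := j'), mul_comm (R.rA σ j' j)]
  diagonal j := by simp
  off_diagonal j j' h := by
    simp only [Matrix.of_apply, if_neg h]
    split_ifs <;> decide

/-- the relative Weyl group -/
abbrev rW : Type := (R.rM σ).Group

/-- the relative Coxeter system -/
noncomputable abbrev rcs : CoxeterSystem (R.rM σ) (R.rW σ) := (R.rM σ).toCoxeterSystem

/-- the restriction of a root -/
noncomputable def rv (x : Bool × Φ) : Orb σ → ℤ := res σ (R.vec x)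

variable {R σ} {θ : Equiv.Perm Φ}

theorem rv_ng (x : Bool × Φ) : R.rv σ (ng x) = -R.rv σ x := by rw [rv, vec_ng, map_neg, rv]

theorem rv_false (b : Φ) : R.rv σ (false, b) = -R.rv σ (true, b) := rv_ng (true, b)

theorem rv_zi (i : ι) : R.rv σ (true, R.zi i) = Tits.Roots.sr (orb σ i) := by rw [rv, vec_zi, res_single, one_smul]

theorem vec_nonneg (b : Φ) : 0 ≤ R.vec (true, b) := fun j => by rw [vec_true]; exact Int.natCast_nonneg _

theorem rv_nonneg (b : Φ) : 0 ≤ R.rv σ (true, b) := res_nonneg (vec_nonneg b)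

theorem rv_ne_zero (b : Φ) : R.rv σ (true, b) ≠ 0 := fun h =>
  R.vec_ne_zero (true, b) (funext fun i => eq_zero_of_res (σ := σ) (vec_nonneg b) (congrFun h _))

theorem pos_of_rv {x : Bool × Φ} (h : 0 ≤ R.rv σ x) : x.1 = true := by
  rcases x with ⟨_ | _, b⟩
  · rw [rv_false] at h
    exact (rv_ne_zero (σ := σ) b (le_antisymm (neg_nonneg.1 h) (rv_nonneg b))).elim
  · rfl

theorem neg_of_rv {x : Bool × Φ} (h : R.rv σ x ≤ 0) : x.1 = false := by
  rcases x with ⟨_ | _, b⟩
  · rfl
  · exact (rv_ne_zero (σ := σ) b (le_antisymm h (rv_nonneg b))).elim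

theorem rv_of_cf {a b b' : Φ} {m n : ℕ} (h : R.cf a = m • R.cf b + n • R.cf b') :
    R.rv σ (true, a) = (m : ℤ) • R.rv σ (true, b) + (n : ℤ) • R.rv σ (true, b') := by
  rw [rv, rv, rv, ← map_smul, ← map_smul, ← map_add]
  congr 1
  funext j
  simp [vec_true, h]

namespace Sym

variable (hs : R.Sym σ θ)
include hs

theorem θ_zi (i : ι) : θ (R.zi i) = R.zi (σ i) := by
  apply R.cf_inj
  funext l
  obtain ⟨l, rfl⟩ := σ.surjective l
  rw [hs.cf, R.cf_zi, R.cf_zi, Pi.single_apply, Pi.single_apply]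
  simp

theorem rv_θ (e : Bool) (b : Φ) : R.rv σ (e, θ b) = R.rv σ (e, b) := by
  rw [rv, rv, ← res_comp]
  congr 1
  funext i
  simp only [Function.comp_apply, vec, hs.cf]

theorem toWt_comp (c : ι → ℤ) (i : ι) : R.toWt (c ∘ σ) i = R.toWt c (σ i) := by
  rw [toWt, toWt, ← Equiv.sum_comp σ fun j => R.C (σ i) j * c j]
  exact Finset.sum_congr rfl fun j _ => by rw [hs.C, Function.comp_apply]

theorem rA_orb (j : Orb σ) (l : ι) : R.rA σ j (orb σ l) = ∑ i ∈ oset j, R.C i l := by
  refine eq_of_orb (σ := σ) (g := fun l => ∑ i ∈ oset j, R.C i l) (fun l => ?_) (orb_rp _)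
  rw [← sum_oset_comp]
  exact Finset.sum_congr rfl fun i _ => hs.C i l

theorem pairing_res (j : Orb σ) (c : ι → ℤ) : pairing (R.rA σ) j (res σ c) = ∑ i ∈ oset j, R.toWt c i := by
  rw [pairing, sum_res]
  simp only [hs.rA_orb, toWt, Finset.sum_mul]
  exact Finset.sum_comm

/-- relative positive definiteness -/
theorem rel_zero {v : Orb σ → ℤ} (h0 : 0 ≤ v) (h : ∀ j, pairing (R.rA σ) j v ≤ 0) : v = 0 := by
  let N : ℕ := ∏ j : Orb σ, ol j
  have hN : ∀ j : Orb σ, ol j * (N / ol j) = N := fun j => Nat.mul_div_cancel' (Finset.dvd_prod_of_mem _ (mem_univ j))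
  have hN0 : 0 < N := Finset.prod_pos fun j _ => ol_pos j
  let c : ι → ℤ := fun i => ((N / ol (orb σ i) : ℕ) : ℤ) * v (orb σ i)
  have hc : res σ c = (N : ℤ) • v := by
    funext j
    rw [res_apply, Finset.sum_congr rfl (g := fun _ => ((N / ol j : ℕ) : ℤ) * v j) fun i hi => by
      simp only [c, mem_oset.1 hi], Finset.sum_const, card_oset, nsmul_eq_mul, ← mul_assoc, ← Nat.cast_mul, hN]
    rfl
  have hc' : c ∘ σ = c := funext fun i => by simp only [c, Function.comp_apply, orb_apply]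
  have h1 : c = 0 := by
    refine R.eq_zero_of_toWt_nonpos (fun i => mul_nonneg (Int.natCast_nonneg _) (h0 _)) fun i => ?_
    have h2 := hs.pairing_res (orb σ i) c
    rw [hc, pairing_smul, Finset.sum_congr rfl (g := fun _ => R.toWt c i) fun i' hi' =>
      eq_of_orb (σ := σ) (g := R.toWt c) (fun l => by rw [← hs.toWt_comp, hc']) (mem_oset.1 hi'),
      Finset.sum_const, card_oset, nsmul_eq_mul] at h2
    have h3 := h (orb σ i)
    have h4 : (0 : ℤ) < ol (orb σ i) := by exact_mod_cast ol_pos _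
    have h5 : (0 : ℤ) < N := by exact_mod_cast hN0
    by_contra h6
    push Not at h6
    nlinarith [mul_pos h4 h6, mul_nonneg h5.le (neg_nonneg.2 h3)]
  rw [h1, map_zero] at hc
  exact (smul_eq_zero.1 hc.symm).resolve_left (by exact_mod_cast hN0.ne')

end Sym

namespace OSym

variable (ho : R.OSym σ θ)
include ho

theorem C_orb {i i' : ι} (h : orb σ i = orb σ i') (hne : i ≠ i') : R.C i i' = 0 := ho.orth i i' (orb_eq_iff.1 h) hne

theorem rA_self (j : Orb σ) : R.rA σ j j = 2 := by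
  rw [rA, Finset.sum_eq_single (rp j) (fun i hi hne => ho.C_orb ((mem_oset.1 hi).trans (orb_rp j).symm) hne)
    (fun h => (h (rp_mem j)).elim), R.C_self]

omit ho in
theorem rA_nonpos {j j' : Orb σ} (h : j ≠ j') : R.rA σ j j' ≤ 0 :=
  Finset.sum_nonpos fun i hi => R.C_nonpos fun e => h (by rw [← mem_oset.1 hi, e, orb_rp])

theorem rA_zero_symm {j j' : Orb σ} (h : j ≠ j') (h0 : R.rA σ j j' = 0) : R.rA σ j' j = 0 := by
  refine Finset.sum_eq_zero fun i' hi' => R.C_zero_symm ?_
  rw [← mem_oset.1 hi', ho.toSym.rA_orb] at h0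
  exact (Finset.sum_eq_zero_iff_of_nonpos fun i hi => R.C_nonpos fun e =>
    h (by rw [← mem_oset.1 hi, e, mem_oset.1 hi'])).1 h0 _ (rp_mem j)

theorem rA_mul_lt {j j' : Orb σ} (h : j ≠ j') : R.rA σ j j' * R.rA σ j' j < 4 := by
  by_contra h4
  push Not at h4
  have ha := rA_nonpos (R := R) h
  have hb := rA_nonpos (R := R) h.symm
  have hp : ∀ l, pairing (R.rA σ) l ((-R.rA σ j j') • Tits.Roots.sr j + (2 : ℤ) • Tits.Roots.sr j') =
      -R.rA σ j j' * R.rA σ l j + 2 * R.rA σ l j' := fun l => by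
    rw [pairing_add, pairing_smul, pairing_smul]
    simp [pairing, Tits.Roots.sr, Pi.single_apply]
  have h1 := ho.toSym.rel_zero (v := (-R.rA σ j j') • Tits.Roots.sr j + (2 : ℤ) • Tits.Roots.sr j')
    (add_nonneg (smul_nonneg (neg_nonneg.2 ha) (sr_nonneg j)) (smul_nonneg (by norm_num) (sr_nonneg j'))) fun l => by
      rw [hp]
      by_cases h1 : l = j
      · rw [h1, ho.rA_self]; omega
      · by_cases h2 : l = j'
        · rw [h2, ho.rA_self]; linarith
        · nlinarith [rA_nonpos (R := R) h1, rA_nonpos (R := R) h2]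
  have h2 := congrFun h1 j'
  simp [Tits.Roots.sr, Pi.single_eq_of_ne h.symm] at h2

theorem isCartan : IsCartan (R.rM σ) (R.rA σ) where
  diag := ho.rA_self
  rel j j' h := by
    have ha := rA_nonpos (R := R) h
    have hb := rA_nonpos (R := R) h.symm
    have h4 := ho.rA_mul_lt h
    have h1 := ho.rA_zero_symm h
    have h2 := ho.rA_zero_symm h.symm
    have hM : R.rM σ j j' = if R.rA σ j j' * R.rA σ j' j = 0 then 2
        else if R.rA σ j j' * R.rA σ j' j = 1 then 3 else if R.rA σ j j' * R.rA σ j' j = 2 then 4 else 6 := if_neg h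
    rw [hM]
    generalize R.rA σ j j' = a at *
    generalize R.rA σ j' j = b at *
    by_cases ha0 : a = 0
    · simp [ha0, h1 ha0]
    · have hb0 : b ≠ 0 := fun e => ha0 (h2 e)
      have ha3 : -3 ≤ a := by nlinarith [Int.lt_iff_add_one_le.1 (lt_of_le_of_ne hb hb0)]
      have hb3 : -3 ≤ b := by nlinarith [Int.lt_iff_add_one_le.1 (lt_of_le_of_ne ha ha0)]
      interval_cases a <;> interval_cases b <;> simp_all

omit ho in
theorem svl_orth {l : List ι} (hl : l.Nodup) (h : ∀ i ∈ l, ∀ i' ∈ l, i ≠ i' → R.C i i' = 0) (c : ι → ℤ) :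
    R.svl l c = c - ∑ i ∈ l.toFinset, R.toWt c i • Pi.single i 1 := by
  induction l with
  | nil => simp [svl_nil]
  | cons i l ih =>
    obtain ⟨hi, hl'⟩ := List.nodup_cons.1 hl
    have ih' := ih hl' fun a ha b hb => h a (List.mem_cons_of_mem _ ha) b (List.mem_cons_of_mem _ hb)
    have h1 : R.toWt (∑ i ∈ l.toFinset, R.toWt c i • (Pi.single i 1 : ι → ℤ)) i = 0 := by
      rw [toWt]
      refine Finset.sum_eq_zero fun j _ => ?_
      by_cases hj : j ∈ l
      · rw [h i List.mem_cons_self j (List.mem_cons_of_mem _ hj) (fun e => hi (e ▸ hj)), zero_mul]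
      · rw [Finset.sum_apply, Finset.sum_eq_zero, mul_zero]
        intro a ha
        rw [Pi.smul_apply, Pi.single_eq_of_ne (fun e => hj (by rw [e]; exact List.mem_toFinset.1 ha)), smul_zero]
    rw [svl_cons, ih', sv, toWt_sub, Pi.sub_apply, h1, sub_zero, List.toFinset_cons,
      Finset.sum_insert (by simpa using hi)]
    abel

theorem svl_oset (j : Orb σ) (c : ι → ℤ) :
    R.svl (oset j).toList c = c - ∑ i ∈ oset j, R.toWt c i • Pi.single i 1 := by
  rw [svl_orth (Finset.nodup_toList _) (fun i hi i' hi' => ho.C_orb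
    ((mem_oset.1 (Finset.mem_toList.1 hi)).trans (mem_oset.1 (Finset.mem_toList.1 hi')).symm)), Finset.toList_toFinset]

theorem res_svl (j : Orb σ) (c : ι → ℤ) :
    res σ (R.svl (oset j).toList c) = rep (R.rcs σ) ho.isCartan ((R.rcs σ).simple j) (res σ c) := by
  rw [ho.svl_oset, rep_simple_eq, map_sub, map_sum, ho.toSym.pairing_res, Finset.sum_smul]
  congr 1
  exact Finset.sum_congr rfl fun i hi => by rw [map_smul, res_single, one_smul, mem_oset.1 hi]

theorem rv_srl (j : Orb σ) (x : Bool × Φ) :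
    R.rv σ (R.srl (oset j).toList x) = rep (R.rcs σ) ho.isCartan ((R.rcs σ).simple j) (R.rv σ x) := by
  rw [rv, vec_srl, ho.res_svl, rv]

/-- a positive root which is supported on one orbit is simple -/
theorem simple_of_supp {b : Φ} {j : Orb σ} (h : ∀ j', j' ≠ j → R.rv σ (true, b) j' = 0) :
    ∃ i, orb σ i = j ∧ b = R.zi i := by
  have h0 : ∀ i, orb σ i ≠ j → R.cf b i = 0 := fun i hi => by
    have h1 := eq_zero_of_res (σ := σ) (vec_nonneg (R := R) b) (h _ hi)
    rw [vec_true] at h1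
    exact_mod_cast h1
  by_cases hb : ∃ i, b = R.zi i
  · obtain ⟨i, rfl⟩ := hb
    refine ⟨i, by_contra fun hi => ?_, rfl⟩
    have h1 := h0 i hi
    rw [R.cf_zi, Pi.single_eq_same] at h1
    cases h1
  · push Not at hb
    obtain ⟨i, hi⟩ := R.desc b hb
    have h1 := R.cf_s i b (hb i) i
    rw [if_pos rfl] at h1
    have h2 : ∑ l, R.C i l * R.cf b l ≤ 2 * (R.cf b i : ℤ) := by
      rw [← Finset.add_sum_erase _ _ (mem_univ i), R.C_self]
      have : ∑ l ∈ univ.erase i, R.C i l * (R.cf b l : ℤ) ≤ 0 := Finset.sum_nonpos fun l hl =>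
        mul_nonpos_of_nonpos_of_nonneg (R.C_nonpos (Finset.ne_of_mem_erase hl).symm) (Int.natCast_nonneg _)
      omega
    have h3 : orb σ i = j := by_contra fun hi' => by rw [h0 i hi'] at h2; omega
    have h4 : ∑ l, R.C i l * R.cf b l = 2 * (R.cf b i : ℤ) := by
      rw [Finset.sum_eq_single i (fun l _ hl => ?_) (fun h => (h (mem_univ i)).elim), R.C_self]
      by_cases hl' : orb σ l = j
      · rw [ho.C_orb (h3.trans hl'.symm) hl.symm, zero_mul]
      · rw [h0 l hl', Nat.cast_zero, mul_zero]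
    omega

theorem eq_zi_of_rv {x : Bool × Φ} {j : Orb σ} (h : R.rv σ x = Tits.Roots.sr j) : ∃ i, orb σ i = j ∧ x = (true, R.zi i) := by
  obtain ⟨e, b⟩ := x
  have he : e = true := pos_of_rv (σ := σ) (x := (e, b)) (by rw [h]; exact sr_nonneg j)
  subst he
  obtain ⟨i, hi, rfl⟩ := ho.simple_of_supp (b := b) (j := j) fun j' hj' => by rw [h, sr_ne hj']
  exact ⟨i, hi, rfl⟩

theorem isRoot_rv (x : Bool × Φ) : IsRoot (R.rcs σ) ho.isCartan (R.rv σ x) := by
  have key : ∀ (n : ℕ) (b : Φ), ht (R.rv σ (true, b)) = n → IsRoot (R.rcs σ) ho.isCartan (R.rv σ (true, b)) := by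
    intro n
    induction n using Nat.strong_induction_on with
    | _ n ih =>
      intro b hb
      have h1 : ∃ j, 0 < pairing (R.rA σ) j (R.rv σ (true, b)) := by
        by_contra h
        push Not at h
        exact rv_ne_zero b (ho.toSym.rel_zero (rv_nonneg b) h)
      obtain ⟨j, hj⟩ := h1
      by_cases h2 : ∀ j', j' ≠ j → R.rv σ (true, b) j' = 0
      · obtain ⟨i, -, rfl⟩ := ho.simple_of_supp h2
        rw [rv_zi]
        exact isRoot_sr _ _ _
      · push Not at h2
        obtain ⟨j', hj', h3⟩ := h2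
        have h4 := ho.rv_srl j (true, b)
        generalize R.srl (oset j).toList (true, b) = y at h4
        obtain ⟨e, a⟩ := y
        have h5 : e = true := by
          cases e
          · have h6 := congrFun h4 j'
            rw [rep_simple_apply _ _ _ _ _ hj', rv_false, Pi.neg_apply] at h6
            have h7 := rv_nonneg (R := R) (σ := σ) a j'
            have h8 := rv_nonneg (R := R) (σ := σ) b j'
            simp only [Pi.zero_apply] at h7 h8
            omega
          · rfl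
        subst h5
        have h6 : 0 ≤ ht (R.rv σ (true, a)) := Finset.sum_nonneg fun l _ => rv_nonneg a l
        have h7 := congrArg ht h4
        rw [ht_simple, hb] at h7
        have h8 := (ih (ht (R.rv σ (true, a))).toNat (by omega) a (by omega)).act ((R.rcs σ).simple j)
        rwa [h4, ← rep_mul_apply, simple_mul_simple_self, map_one, Module.End.one_apply] at h8
  obtain ⟨e, b⟩ := x
  have h1 := key (ht (R.rv σ (true, b))).toNat b
    (Int.toNat_of_nonneg (Finset.sum_nonneg fun l _ => rv_nonneg b l)).symm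
  cases e
  · rw [rv_false]; exact h1.neg
  · exact h1

omit ho in
/-- the word in the nodes of a word in the orbits -/
noncomputable def fl (ω : List (Orb σ)) : List ι := ω.flatMap fun j => (oset j).toList

theorem rv_srl_fl (ω : List (Orb σ)) (x : Bool × Φ) :
    R.rv σ (R.srl (fl ω) x) = rep (R.rcs σ) ho.isCartan ((R.rcs σ).wordProd ω) (R.rv σ x) := by
  induction ω with
  | nil => rw [wordProd_nil, map_one]; rfl
  | cons j ω ih => rw [fl, List.flatMap_cons, srl_append, ho.rv_srl, wordProd_cons, rep_mul_apply, ← ih, fl]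

theorem isRoot_iff {z : Orb σ → ℤ} : IsRoot (R.rcs σ) ho.isCartan z ↔ ∃ x, R.rv σ x = z := by
  refine ⟨?_, by rintro ⟨x, rfl⟩; exact ho.isRoot_rv x⟩
  rintro ⟨w, j, rfl⟩
  obtain ⟨ω, rfl⟩ := (R.rcs σ).wordProd_surjective w
  exact ⟨_, by rw [ho.rv_srl_fl ω (true, R.zi (rp j)), rv_zi, orb_rp]⟩

theorem finite_W : Finite (R.rW σ) := by
  have h1 : ∀ (w : R.rW σ) (j : Orb σ), ∃ x : Bool × Φ, R.rv σ x = rep (R.rcs σ) ho.isCartan w (Tits.Roots.sr j) :=
    fun w j => ho.isRoot_iff.1 ((isRoot_sr _ _ j).act w)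
  choose g hg using h1
  refine Finite.of_injective g fun u v huv => ?_
  refine inv_mul_eq_one.1 (eq_one_of_fix (R.rcs σ) ho.isCartan _ fun j => ?_)
  have h3 : rep (R.rcs σ) ho.isCartan v (Tits.Roots.sr j) = rep (R.rcs σ) ho.isCartan u (Tits.Roots.sr j) := by rw [← hg, ← hg, huv]
  show rep (R.rcs σ) ho.isCartan (u⁻¹ * v) (Tits.Roots.sr j) = Tits.Roots.sr j
  rw [rep_mul_apply, h3, rep_inv_apply]

/-- no root is a positive combination of two roots with the same restriction -/
theorem not_comb {a b b' : Φ} (h : R.rv σ (true, b) = R.rv σ (true, b')) {m n : ℕ} (hm : 0 < m) (hn : 0 < n) :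
    R.cf a ≠ m • R.cf b + n • R.cf b' := by
  intro he
  have h1 := rv_of_cf (σ := σ) he
  rw [← h, ← add_smul] at h1
  have h2 := isUnit_of_smul _ _ (ho.isRoot_rv (true, a)) _ h1
  rcases Int.isUnit_iff.1 h2 with h3 | h3 <;> omega

end OSym

end RC

end Cfsg.Agent.TwoF.DC
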