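import Cfsg.Agent.TwoF.DC.Fin.Loc
import Cfsg.Agent.Nodes.RGDLib

/-!
# TwoF, defining characteristic: the finite groups, root group data (helper7)

* `RDat.US S` : the group generated by the root groups of `S`; `Tws.X z` : the relative root groups, `Tws.H` the torus;
* `Tws.fix_US` : the fixed points in `US S` for closed saturated `S`;
* `Tws.rgd` : root group data in `G`.
-/

set_option autoImplicit false
set_option linter.unusedSectionVars false

namespace Cfsg.Agent.TwoF.DC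

open Finset Cfsg.Agent.H45.UniE CoxeterSystem Cfsg.Agent.ChevalleyStructure.CoxeterGeom Cfsg.Agent.Tits.Roots
  Cfsg.Agent.Nodes.Reps Cfsg.Agent.Nodes.BNOf Cfsg.Agent.Nodes.RGDTwGen
open scoped commutatorElement

variable {p : ℕ} {ι Φ k G : Type} [Fintype ι] [DecidableEq ι] [Fintype Φ] [DecidableEq Φ] [Field k] [Group G]

namespace RDat

variable (D : RDat p ι Φ k G)

/-- the group generated by the root groups of a set of roots -/
def US (S : Set (Bool × Φ)) : Subgroup G := Subgroup.closure {g | ∃ y ∈ S, ∃ t, g = D.ζ y t}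

theorem ζ_mem_US {S : Set (Bool × Φ)} {y : Bool × Φ} (h : y ∈ S) (t : k) : D.ζ y t ∈ D.US S :=
  Subgroup.subset_closure ⟨y, h, t, rfl⟩

theorem US_le {S : Set (Bool × Φ)} {K : Subgroup G} (h : ∀ y ∈ S, ∀ t, D.ζ y t ∈ K) : D.US S ≤ K :=
  (Subgroup.closure_le _).2 (by rintro _ ⟨y, hy, t, rfl⟩; exact h y hy t)

theorem US_mono {S S' : Set (Bool × Φ)} (h : S ⊆ S') : D.US S ≤ D.US S' := D.US_le fun _ hy t => D.ζ_mem_US (h hy) t

theorem conj_US {S S' : Set (Bool × Φ)} {g : G} (h : ∀ y ∈ S, ∀ t, g * D.ζ y t * g⁻¹ ∈ D.US S') {u : G}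
    (hu : u ∈ D.US S) : g * u * g⁻¹ ∈ D.US S' :=
  D.US_le (K := (D.US S').comap (MulAut.conj g).toMonoidHom) h hu

theorem τ_US {S S' : Set (Bool × Φ)} (h : ∀ y ∈ S, ng y ∈ S') {u : G} (hu : u ∈ D.US S) : D.τ u ∈ D.US S' := by
  induction hu using Subgroup.closure_induction with
  | mem g hg => obtain ⟨y, hy, t, rfl⟩ := hg; rw [τ_ζ]; exact D.ζ_mem_US (h y hy) t
  | one => rw [D.τ_one]; exact one_mem _
  | mul a b _ _ h1 h2 => rw [D.τ_mul]; exact mul_mem h2 h1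
  | inv a _ h1 => rw [D.τ_inv]; exact inv_mem h1

theorem ζ_neg (y : Bool × Φ) (t : k) : D.ζ y (-t) = (D.ζ y t)⁻¹ := by
  rw [eq_inv_iff_mul_eq_one, ← ζ_add, neg_add_cancel, ζ_zero]

/-- the group generated by the positive root groups of a set of positive roots -/
def UP (S : Set Φ) : Subgroup G := Subgroup.closure {g | ∃ b ∈ S, ∃ t, g = D.z b t}

theorem z_mem_UP {S : Set Φ} {b : Φ} (h : b ∈ S) (t : k) : D.z b t ∈ D.UP S := Subgroup.subset_closure ⟨b, h, t, rfl⟩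

theorem UP_le {S : Set Φ} {K : Subgroup G} (h : ∀ b ∈ S, ∀ t, D.z b t ∈ K) : D.UP S ≤ K :=
  (Subgroup.closure_le _).2 (by rintro _ ⟨y, hy, t, rfl⟩; exact h y hy t)

theorem cm_mem_UP {S : Set Φ} {b b' : Φ}
    (h : ∀ a (m n : ℕ), 0 < m → 0 < n → D.R.cf a = m • D.R.cf b + n • D.R.cf b' → a ∈ S) (s t : k) :
    ⁅D.z b s, D.z b' t⁆ ∈ D.UP S :=
  Subgroup.closure_mono (by rintro _ ⟨a, u, ⟨m, n, hm, hn, e⟩, rfl⟩; exact ⟨a, h a m n hm hn e, u, rfl⟩) (D.cm b b' s t)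

theorem z_mem_normalizer {S : Set Φ} {b : Φ}
    (h : ∀ b' ∈ S, ∀ a (m n : ℕ), 0 < m → 0 < n → D.R.cf a = m • D.R.cf b + n • D.R.cf b' → a ∈ S) (s : k) :
    D.z b s ∈ Subgroup.normalizer (D.UP S : Set G) := by
  have key : ∀ s : k, ∀ g ∈ D.UP S, D.z b s * g * (D.z b s)⁻¹ ∈ D.UP S := fun s g hg => by
    refine D.UP_le (K := (D.UP S).comap (MulAut.conj (D.z b s)).toMonoidHom) (fun b' hb' t => ?_) hg
    have h1 := mul_mem (D.cm_mem_UP (h b' hb') s t) (D.z_mem_UP hb' t)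
    rwa [commutatorElement_def, inv_mul_cancel_right] at h1
  rw [Subgroup.mem_normalizer_iff]
  refine fun g => ⟨key s g, fun hg => ?_⟩
  have h1 := key (-s) _ hg
  rw [D.z_neg] at h1
  simpa [mul_assoc] using h1

variable {D}

theorem lead_supp (hF : D.Fa) {S : Set Φ} {e : ℕ} (he : ∀ b ∈ S, e ≤ D.ht b) {x : G} (hx : x ∈ D.UP S) :
    ∃ v, D.Lead x e v ∧ ∀ b, b ∉ S → v b = 0 := by
  induction hx using Subgroup.closure_induction with
  | mem g hg =>
    obtain ⟨b, hb, t, rfl⟩ := hg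
    rcases (he b hb).eq_or_lt with h | h
    · exact ⟨_, lead_z h.symm t, fun a ha => Pi.single_eq_of_ne (by rintro rfl; exact ha hb) _⟩
    · exact ⟨0, lead_zero (D.z_mem_Uge h t), fun _ _ => rfl⟩
  | one => exact ⟨0, lead_zero (one_mem _), fun _ _ => rfl⟩
  | mul a b _ _ h1 h2 =>
    obtain ⟨v, hv, hv'⟩ := h1
    obtain ⟨w, hw, hw'⟩ := h2
    exact ⟨v + w, hv.mul hw, fun c hc => by rw [Pi.add_apply, hv' c hc, hw' c hc, add_zero]⟩
  | inv a _ h1 =>
    obtain ⟨v, hv, hv'⟩ := h1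
    obtain ⟨w, hw⟩ := exists_lead (inv_mem hv.mem)
    have h2 := hv.mul hw
    rw [mul_inv_cancel] at h2
    have h3 := h2.unique hF (lead_zero (one_mem _))
    exact ⟨w, hw, fun c hc => by simpa [hv' c hc] using congrFun h3 c⟩

theorem lead_pz {e : ℕ} {l : List Φ} (hl : l.Nodup) (he : ∀ b ∈ l, D.ht b = e) (v : Φ → k) :
    D.Lead (D.pz l v) e fun b => if b ∈ l then v b else 0 := by
  induction l with
  | nil => exact lead_zero (D := D) (e := e) (one_mem _)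
  | cons a l ih =>
    obtain ⟨ha, hl'⟩ := List.nodup_cons.1 hl
    have h1 := (lead_z (he a List.mem_cons_self) (v a)).mul (ih hl' fun b hb => he b (List.mem_cons_of_mem _ hb))
    rw [← pz_cons] at h1
    convert h1 using 1
    funext b
    by_cases hb : b = a
    · simp [hb, ha]
    · simp [hb]

theorem pz_add_comm {l : List Φ} (hc : ∀ b ∈ l, ∀ b' ∈ l, ∀ s t, Commute (D.z b s) (D.z b' t)) (v w : Φ → k) :
    D.pz l (v + w) = D.pz l v * D.pz l w := by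
  rw [pz, pz, pz, ← list_prod_mul (List.pairwise_of_forall_mem_list fun a ha b hb => hc a ha b hb _ _)]
  exact congrArg List.prod (List.map_congr_left fun b _ => D.z_add b _ _)

theorem pz_mem_of {l : List Φ} {K : Subgroup G} {v : Φ → k} (h : ∀ b ∈ l, D.z b (v b) ∈ K) : D.pz l v ∈ K :=
  Subgroup.list_prod_mem _ fun _ hy => by
    obtain ⟨b, hb, rfl⟩ := List.mem_map.1 hy
    exact h b hb

/-- splitting off a commuting set of roots -/
theorem exists_pz {l : List Φ} (hl : l.Nodup) (hc : ∀ b ∈ l, ∀ b' ∈ l, ∀ s t, Commute (D.z b s) (D.z b' t))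
    {S S' : Set Φ} (hS : ∀ b ∈ S, b ∈ l ∨ b ∈ S')
    (hn : ∀ b ∈ l, ∀ t, D.z b t ∈ Subgroup.normalizer (D.UP S' : Set G)) {x : G} (hx : x ∈ D.UP S) :
    ∃ v, (D.pz l v)⁻¹ * x ∈ D.UP S' := by
  have hN : ∀ v, ∀ y ∈ D.UP S', (D.pz l v)⁻¹ * y * D.pz l v ∈ D.UP S' := fun v y hy => by
    have h1 := (Subgroup.mem_normalizer_iff.1 (inv_mem (pz_mem_of (v := v) fun b hb => hn b hb _)) y).1 hy
    rwa [inv_inv] at h1
  induction hx using Subgroup.closure_induction with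
  | mem g hg =>
    obtain ⟨b, hb, t, rfl⟩ := hg
    rcases hS b hb with h | h
    · exact ⟨Pi.single b t, by rw [D.pz_single hl, if_pos h, inv_mul_cancel]; exact one_mem _⟩
    · exact ⟨0, by rw [D.pz_zero, inv_one, one_mul]; exact D.z_mem_UP h t⟩
  | one => exact ⟨0, by rw [D.pz_zero, inv_one, one_mul]; exact one_mem _⟩
  | mul a b _ _ h1 h2 =>
    obtain ⟨v, hv⟩ := h1
    obtain ⟨w, hw⟩ := h2
    refine ⟨v + w, ?_⟩
    have h3 := mul_mem (hN w _ hv) hw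
    rw [pz_add_comm hc]
    simpa [mul_assoc] using h3
  | inv a _ h1 =>
    obtain ⟨v, hv⟩ := h1
    refine ⟨-v, ?_⟩
    have h2 : D.pz l (-v) = (D.pz l v)⁻¹ := by
      rw [eq_inv_iff_mul_eq_one, ← pz_add_comm hc, neg_add_cancel, D.pz_zero]
    have h3 := hN (-v) _ (inv_mem hv)
    rw [h2] at h3 ⊢
    simpa [mul_assoc] using h3

end RDat

namespace Tws

variable {D : RDat p ι Φ k G} (P : Tws D)

/-- the relative Coxeter system -/
noncomputable abbrev cs : CoxeterSystem (D.R.rM P.sι) (D.R.rW P.sι) := D.R.rcs P.sι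

theorem hC : IsCartan (D.R.rM P.sι) (D.R.rA P.sι) := P.osym.isCartan

/-- the restriction of a root -/
noncomputable abbrev rv (y : Bool × Φ) : Orb P.sι → ℤ := D.R.rv P.sι y

/-- the torus of the finite group -/
def H : Subgroup G := D.TorK ⊓ P.Fx

/-- the relative root groups -/
def X (z : Orb P.sι → ℤ) : Subgroup G := D.US {y | P.rv y = z} ⊓ P.Fx

variable {P} in
theorem X_fix {z : Orb P.sι → ℤ} {g : G} (h : g ∈ P.X z) : g ∈ P.Fx := h.2

variable {P} in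
theorem H_fix {g : G} (h : g ∈ P.H) : g ∈ P.Fx := h.2

variable {P} in
theorem H_tor {g : G} (h : g ∈ P.H) : g ∈ D.TorK := h.1

theorem conj_fix {a b : G} (ha : a ∈ P.Fx) (hb : b ∈ P.Fx) : a * b * a⁻¹ ∈ P.Fx := mul_mem (mul_mem ha hb) (inv_mem ha)

theorem τ_X {z : Orb P.sι → ℤ} {g : G} (h : g ∈ P.X z) : D.τ g ∈ P.X (-z) :=
  ⟨D.τ_US (fun y (hy : P.rv y = z) => show P.rv (ng y) = -z by rw [← hy]; exact RC.rv_ng y) h.1, P.τ_Fx h.2⟩

theorem xo_mem_US (j : Orb P.sι) (v : ι → k) : P.xo j v ∈ D.US {y | P.rv y = sr j} :=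
  P.po_mem fun i hi => by
    rw [← RDat.ζ_x]
    exact D.ζ_mem_US (show P.rv _ = sr j by rw [← hi]; exact RC.rv_zi i) _

theorem exists_xo {j : Orb P.sι} {g : G} (h : g ∈ D.US {y | P.rv y = sr j}) : ∃ v, g = P.xo j v := by
  induction h using Subgroup.closure_induction with
  | mem g hg =>
    obtain ⟨y, hy, t, rfl⟩ := hg
    obtain ⟨i, hi, rfl⟩ := P.osym.eq_zi_of_rv hy
    exact ⟨Pi.single i t, by rw [RDat.ζ_x, P.xo_single hi]⟩
  | one => exact ⟨0, (P.xo_zero j).symm⟩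
  | mul a b _ _ h1 h2 =>
    obtain ⟨v, rfl⟩ := h1
    obtain ⟨w, rfl⟩ := h2
    exact ⟨v + w, (P.xo_add j v w).symm⟩
  | inv a _ h1 =>
    obtain ⟨v, rfl⟩ := h1
    exact ⟨-v, (P.xo_neg j v).symm⟩

theorem X_le_U {z : Orb P.sι → ℤ} (hz : 0 ≤ z) : P.X z ≤ D.U := by
  refine inf_le_left.trans (D.US_le ?_)
  rintro ⟨e, b⟩ (hy : P.rv _ = z) t
  obtain rfl : e = true := RC.pos_of_rv (x := (e, b)) (hy ▸ hz)
  exact D.z_mem_U b t

theorem X_le_Um {z : Orb P.sι → ℤ} (hz : z ≤ 0) : P.X z ≤ D.Um := fun g hg => by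
  rw [← D.τ_τ g]
  exact D.τ_U (P.X_le_U (neg_nonneg.2 hz) (P.τ_X hg))

theorem cj_tor_le {t : G} (ht : t ∈ P.H) (z : Orb P.sι → ℤ) : cj t (P.X z) ≤ P.X z := by
  rintro _ ⟨g, ⟨hg, hg'⟩, rfl⟩
  refine ⟨D.conj_US (fun y hy s => ?_) hg, P.conj_fix ht.2 hg'⟩
  obtain ⟨ε, h⟩ := D.TorK_ζ ht.1 y
  rw [h, mul_inv_cancel_right]
  exact D.ζ_mem_US hy _

theorem cj_tor {t : G} (ht : t ∈ P.H) (z : Orb P.sι → ℤ) : cj t (P.X z) = P.X z := by
  refine le_antisymm (P.cj_tor_le ht z) ?_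
  have h1 := cj_mono t (P.cj_tor_le (inv_mem ht) z)
  rwa [cj_cj_inv] at h1

theorem ht_eq_of_rv {b b' : Φ} (h : P.rv (true, b) = P.rv (true, b')) : D.ht b = D.ht b' :=
  RDat.ht_of_rv (P.ht_zi P.σ) h

theorem Θ_pz {l : List Φ} (hl : l.Nodup) (hc : ∀ b ∈ l, ∀ b' ∈ l, ∀ s t, Commute (D.z b s) (D.z b' t))
    (hθ : ∀ b, P.sΦ b ∈ l ↔ b ∈ l) (v : Φ → k) :
    P.Θ (D.pz l v) = D.pz l fun a => P.ε P.σ (P.sΦ.symm a) * v (P.sΦ.symm a) ^ p ^ P.f := by
  rw [RDat.pz, RDat.pz, map_list_prod, List.map_map]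
  refine Eq.trans ?_ (List.Perm.prod_eq' (List.Perm.map _ ((List.perm_ext_iff_of_nodup (hl.map P.sΦ.injective) hl).2
    fun a => ?_)) ?_)
  · rw [List.map_map]
    exact congrArg List.prod (List.map_congr_left fun b _ => by
      simp only [Function.comp_apply, Θ_eq, GF_z, Equiv.symm_apply_apply])
  · obtain ⟨a, rfl⟩ := P.sΦ.surjective a
    rw [List.mem_map_of_injective P.sΦ.injective, hθ]
  · rw [List.pairwise_map, List.pairwise_map]
    exact List.pairwise_of_forall_mem_list fun a ha b hb => hc _ ((hθ a).2 ha) _ ((hθ b).2 hb) _ _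

/-- **fixed points in a closed saturated set of positive roots** -/
theorem fix_UP (hF : D.Fa) {K : Subgroup G} (S : Finset Φ)
    (hcl : ∀ b ∈ S, ∀ b' ∈ S, ∀ a (m n : ℕ), 0 < m → 0 < n → D.R.cf a = m • D.R.cf b + n • D.R.cf b' → a ∈ S)
    (hsat : ∀ b ∈ S, ∀ b', P.rv (true, b') = P.rv (true, b) → b' ∈ S) (hK : ∀ b ∈ S, P.X (P.rv (true, b)) ≤ K) :
    D.UP S ⊓ P.Fx ≤ K := by
  classical
  induction S using Finset.strongInduction with
  | H S ih =>
    rintro x ⟨hx, hx'⟩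
    rcases S.eq_empty_or_nonempty with rfl | hne
    · have h1 := D.UP_le (K := ⊥) (S := ((∅ : Finset Φ) : Set Φ)) (by simp) hx
      rw [Subgroup.mem_bot.1 h1]; exact one_mem _
    obtain ⟨b0, hb0, hmin⟩ := S.exists_min_image D.ht hne
    set l := (univ.filter fun b => P.rv (true, b) = P.rv (true, b0)).toList with hl
    have hml : ∀ b, b ∈ l ↔ P.rv (true, b) = P.rv (true, b0) := fun b => by simp [hl]
    have hnd : l.Nodup := Finset.nodup_toList _
    have hc : ∀ b ∈ l, ∀ b' ∈ l, ∀ s t, Commute (D.z b s) (D.z b' t) := fun b hb b' hb' =>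
      RDat.z_comm P.osym (((hml b).1 hb).trans ((hml b').1 hb').symm)
    have hθ : ∀ b, P.sΦ b ∈ l ↔ b ∈ l := fun b => by rw [hml, hml, rv, P.osym.toSym.rv_θ]
    set S' := S.filter fun b => b ∉ l with hS'
    have hup : ∀ b ∈ S, ∀ b' ∈ S, ∀ a (m n : ℕ), 0 < m → 0 < n → D.R.cf a = m • D.R.cf b + n • D.R.cf b' → a ∈ S' := by
      intro b hb b' hb' a m n hm hn e
      refine Finset.mem_filter.2 ⟨hcl b hb b' hb' a m n hm hn e, fun ha => ?_⟩
      have h1 := P.ht_eq_of_rv ((hml a).1 ha)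
      have h2 := D.ht_of_cf e
      have h3 := hmin b hb
      have h4 := D.ht_pos b'
      nlinarith
    have hsat' : ∀ b ∈ S', ∀ b', P.rv (true, b') = P.rv (true, b) → b' ∈ S' := fun b hb b' e =>
      Finset.mem_filter.2 ⟨hsat b (Finset.mem_filter.1 hb).1 b' e, fun h =>
        (Finset.mem_filter.1 hb).2 ((hml b).2 (e.symm.trans ((hml b').1 h)))⟩
    have hn : ∀ b ∈ l, ∀ t, D.z b t ∈ Subgroup.normalizer (D.UP (S' : Set Φ) : Set G) := fun b hb =>
      D.z_mem_normalizer fun b' hb' => hup b (hsat b0 hb0 b ((hml b).1 hb)) b' (Finset.mem_filter.1 hb').1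
    obtain ⟨v, hv⟩ := RDat.exists_pz hnd hc (S := S) (S' := S')
      (fun b hb => (em (b ∈ l)).imp_right fun h => Finset.mem_filter.2 ⟨hb, h⟩) hn hx
    have h1 : P.Θ ((D.pz l v)⁻¹ * x) ∈ D.UP (S' : Set Φ) := by
      refine D.UP_le (K := (D.UP (S' : Set Φ)).comap P.Θ) (fun b hb t => ?_) hv
      show P.Θ _ ∈ D.UP (S' : Set Φ)
      rw [Θ_eq, GF_z]
      exact D.z_mem_UP (hsat' b hb _ (P.osym.toSym.rv_θ true b)) _
    rw [map_mul, map_inv, P.Θ_pz hnd hc hθ, show P.Θ x = x from hx'] at h1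
    set w : Φ → k := fun a => P.ε P.σ (P.sΦ.symm a) * v (P.sΦ.symm a) ^ p ^ P.f with hw
    have h2 : D.pz l (v - w) ∈ D.UP (S' : Set Φ) := by
      have h3 : D.pz l (-w) = (D.pz l w)⁻¹ := by
        rw [eq_inv_iff_mul_eq_one, ← RDat.pz_add_comm hc, neg_add_cancel, D.pz_zero]
      have h4 := mul_mem h1 (inv_mem hv)
      rw [sub_eq_add_neg, add_comm, RDat.pz_add_comm hc, h3]
      simpa [mul_assoc] using h4
    obtain ⟨u, hu, hu'⟩ := RDat.lead_supp hF (e := D.ht b0) (fun b hb => hmin b (Finset.mem_filter.1 hb).1) h2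
    have h3 := (RDat.lead_pz hnd (fun b hb => P.ht_eq_of_rv ((hml b).1 hb)) (v - w)).unique hF hu
    have h4 : D.pz l w = D.pz l v := congrArg List.prod (List.map_congr_left fun b hb => by
      have h5 := congrFun h3 b
      rw [if_pos hb, hu' b fun h => (Finset.mem_filter.1 h).2 hb, Pi.sub_apply, sub_eq_zero] at h5
      rw [h5])
    have h5 : D.pz l v ∈ P.X (P.rv (true, b0)) :=
      ⟨RDat.pz_mem_of fun b hb => D.ζ_mem_US (y := (true, b)) ((hml b).1 hb) _, by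
        show P.Θ _ = _
        rw [P.Θ_pz hnd hc hθ]; exact h4⟩
    have h6 := ih S' (Finset.filter_ssubset.2 ⟨b0, hb0, fun h => h ((hml b0).2 rfl)⟩)
      (fun b hb b' hb' => hup b (Finset.mem_filter.1 hb).1 b' (Finset.mem_filter.1 hb').1) hsat'
      (fun b hb => hK b (Finset.mem_filter.1 hb).1) ⟨hv, P.Fx.mul_mem (inv_mem (X_fix h5)) hx'⟩
    simpa using mul_mem (hK b0 hb0 h5) h6

variable [Infinite k]

theorem cj_le_of {g : G} (hg : g ∈ P.Fx) {l : List ι} (e : g = D.nwl l) {z z' : Orb P.sι → ℤ}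
    (h : ∀ y, P.rv y = z → P.rv (D.R.srl l y) = z') : cj g (P.X z) ≤ P.X z' := by
  rintro _ ⟨u, ⟨hu, hu'⟩, rfl⟩
  refine ⟨D.conj_US (fun y hy s => ?_) hu, P.conj_fix hg hu'⟩
  obtain ⟨ε, h1⟩ := D.nwl_ζ l y
  rw [e, h1, mul_inv_cancel_right]
  exact D.ζ_mem_US (h y hy) _

variable [Fact p.Prime] [CharP k p]

theorem mem_X_sr {j : Orb P.sι} {g : G} :
    g ∈ P.X (sr j) ↔ ∃ v : ι → k, (∀ i, orb P.sι i = j → v (P.sι i) = v i ^ p ^ P.f) ∧ g = P.xo j v := by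
  refine ⟨fun h => ?_, by rintro ⟨v, hv, rfl⟩; exact ⟨P.xo_mem_US j v, P.xo_fix hv⟩⟩
  obtain ⟨v, rfl⟩ := P.exists_xo h.1
  exact ⟨v, P.xo_fix_iff.1 h.2, rfl⟩

theorem mem_X_neg {j : Orb P.sι} {g : G} :
    g ∈ P.X (-sr j) ↔ ∃ v : ι → k, (∀ i, orb P.sι i = j → v (P.sι i) = v i ^ p ^ P.f) ∧ g = P.yo j v := by
  constructor
  · intro h
    have h1 := P.τ_X h
    rw [neg_neg] at h1
    obtain ⟨v, hv, e⟩ := P.mem_X_sr.1 h1
    exact ⟨v, hv, by rw [← τ_xo, ← e, D.τ_τ]⟩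
  · rintro ⟨v, hv, rfl⟩
    rw [← τ_xo]
    exact P.τ_X (P.mem_X_sr.2 ⟨v, hv, rfl⟩)

theorem ho_mem_H {j : Orb P.sι} {c : ι → kˣ} (hc : ∀ i, orb P.sι i = j → c (P.sι i) = c i ^ p ^ P.f) :
    P.ho j c ∈ P.H := by
  refine Subgroup.mem_inf.2 ⟨P.ho_mem j c, ?_⟩
  rw [ho_eq, κ_fix]
  intro i
  rw [orb_apply]
  split_ifs with h
  · exact hc i h
  · rw [one_pow]

theorem no_mem_normalizer (j : Orb P.sι) : P.no j ∈ Subgroup.normalizer (P.H : Set G) := by
  have h1 := Subgroup.mem_normalizer_iff.1 (D.nwl_mem_normalizer (oset j).toList)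
  rw [Subgroup.mem_normalizer_iff]
  refine fun t => ⟨fun ht => ⟨(h1 t).1 ht.1, P.conj_fix (P.no_fix j) ht.2⟩,
    fun ht => Subgroup.mem_inf.2 ⟨(h1 t).2 ht.1, ?_⟩⟩
  have h2 := P.conj_fix (inv_mem (P.no_fix j)) (H_fix ht)
  simpa [mul_assoc] using h2

theorem nwl_fl (ω : List (Orb P.sι)) : D.nwl (RC.OSym.fl ω) = (ω.map P.no).prod := by
  induction ω with
  | nil => rfl
  | cons j ω ih => rw [RC.OSym.fl, List.flatMap_cons, D.nwl_append, List.map_cons, List.prod_cons, ← ih]; rfl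

theorem nwl_fl_fix (ω : List (Orb P.sι)) : D.nwl (RC.OSym.fl ω) ∈ P.Fx := by
  rw [nwl_fl]
  exact Subgroup.list_prod_mem _ fun _ hy => by
    obtain ⟨j, -, rfl⟩ := List.mem_map.1 hy
    exact P.no_fix j

theorem nsys : NSys (D.R.rM P.sι) P.H P.no where
  norm := P.no_mem_normalizer
  rel j j' := by
    have key : ∀ m : ℕ, ∃ ω : List (Orb P.sι), (P.no j * P.no j') ^ m = D.nwl (RC.OSym.fl ω) ∧
        P.cs.wordProd ω = (P.cs.simple j * P.cs.simple j') ^ m := by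
      intro m
      induction m with
      | zero => exact ⟨[], pow_zero _, by rw [wordProd_nil, pow_zero]⟩
      | succ m ih =>
        obtain ⟨ω, h1, h2⟩ := ih
        refine ⟨j :: j' :: ω, ?_, by rw [wordProd_cons, wordProd_cons, h2, pow_succ', mul_assoc]⟩
        rw [pow_succ', h1, nwl_fl, nwl_fl, List.map_cons, List.map_cons, List.prod_cons, List.prod_cons, mul_assoc]
    obtain ⟨ω, h1, h2⟩ := key (D.R.rM P.sι j j')
    rw [simple_mul_simple_pow] at h2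
    rw [h1]
    refine ⟨D.braid _ fun i => RC.pos_of_rv (R := D.R) (σ := P.sι) ?_, P.nwl_fl_fix ω⟩
    rw [P.osym.rv_srl_fl, h2, map_one]
    exact RC.rv_nonneg _

theorem cj_no (j : Orb P.sι) (z : Orb P.sι → ℤ) : cj (P.no j) (P.X z) = P.X (rep P.cs P.hC (P.cs.simple j) z) := by
  have key : ∀ z, cj (P.no j) (P.X z) ≤ P.X (rep P.cs P.hC (P.cs.simple j) z) := fun z =>
    P.cj_le_of (P.no_fix j) (P.no_eq j) fun y hy => by rw [← hy]; exact P.osym.rv_srl j y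
  refine le_antisymm (key z) ?_
  have h1 := cj_mono (P.no j) (key (rep P.cs P.hC (P.cs.simple j) z))
  have h2 := P.nsys.rel j j
  rw [CoxeterMatrix.diagonal, pow_one] at h2
  rwa [← cj_mul, P.cj_tor h2, ← rep_mul_apply, simple_mul_simple_self, map_one, Module.End.one_apply] at h1

theorem cj_nwl (ω : List (Orb P.sι)) (z : Orb P.sι → ℤ) :
    cj (D.nwl (RC.OSym.fl ω)) (P.X z) = P.X (rep P.cs P.hC (P.cs.wordProd ω) z) := by
  rw [nwl_fl]
  induction ω with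
  | nil => rw [List.map_nil, List.prod_nil, cj_one, wordProd_nil, map_one, Module.End.one_apply]
  | cons j ω ih => rw [List.map_cons, List.prod_cons, cj_mul, ih, cj_no, wordProd_cons, rep_mul_apply]

theorem comm_pos (hF : D.Fa) {y z : Orb P.sι → ℤ} (hy : IsRoot P.cs P.hC y) (hz : IsRoot P.cs P.hC z) (hy0 : 0 ≤ y)
    (hz0 : 0 ≤ z) {a b : G} (ha : a ∈ P.X y) (hb : b ∈ P.X z) : ⁅a, b⁆ ∈ btw P.cs P.hC P.X y z := by
  classical
  set S := univ.filter fun c => Btwn P.cs P.hC y z (P.rv (true, c)) with hS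
  have hm : ∀ c, c ∈ S ↔ Btwn P.cs P.hC y z (P.rv (true, c)) := fun c => by simp [hS]
  have hB : ∀ {a c c' : Φ} {m n : ℕ}, 0 < m → 0 < n → D.R.cf a = m • D.R.cf c + n • D.R.cf c' →
      Btwn P.cs P.hC (P.rv (true, c)) (P.rv (true, c')) (P.rv (true, a)) := fun h1 h2 e =>
    ⟨P.osym.isRoot_rv _, 1, _, _, one_pos, Int.natCast_pos.2 h1, Int.natCast_pos.2 h2, by
      rw [one_smul]; exact RC.rv_of_cf e⟩
  have hpos : ∀ {x : Orb P.sι → ℤ}, 0 ≤ x → ∀ g ∈ {g | ∃ w ∈ {w | P.rv w = x}, ∃ t, g = D.ζ w t},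
      ∃ c t, P.rv (true, c) = x ∧ g = D.z c t := by
    rintro x hx _ ⟨⟨e, c⟩, (hw : P.rv _ = x), t, rfl⟩
    obtain rfl : e = true := RC.pos_of_rv (x := (e, c)) (hw ▸ hx)
    exact ⟨c, t, hw, rfl⟩
  refine P.fix_UP hF S (fun c hc c' hc' a m n h1 h2 e => (hm a).2 (btwn_btwn ((hm c).1 hc) ((hm c').1 hc') (hB h1 h2 e)))
    (fun c hc c' e => (hm c').2 (e ▸ (hm c).1 hc)) (fun c hc => le_btw_of ((hm c).1 hc)) ⟨?_, ?_⟩
  · refine comm_closure (fun g hg => ?_) (fun g hg => ?_) (fun g hg g' hg' => ?_) ha.1 hb.1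
    · obtain ⟨c, t, rfl, rfl⟩ := hpos hy0 g hg
      exact D.z_mem_normalizer (fun c' hc' a m n h1 h2 e => (hm a).2 (btwn_trans ((hm c').1 hc') (hB h1 h2 e))) t
    · obtain ⟨c, t, rfl, rfl⟩ := hpos hz0 g hg
      exact D.z_mem_normalizer
        (fun c' hc' a m n h1 h2 e => (hm a).2 (btwn_trans ((hm c').1 hc').symm (hB h1 h2 e)).symm) t
    · obtain ⟨c, t, rfl, rfl⟩ := hpos hy0 g hg
      obtain ⟨c', t', rfl, rfl⟩ := hpos hz0 g' hg'
      exact D.cm_mem_UP (fun a m n h1 h2 e => (hm a).2 (hB h1 h2 e)) t t'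
  · rw [commutatorElement_def]
    exact P.Fx.mul_mem (P.conj_fix ha.2 hb.2) (inv_mem (X_fix hb))

theorem comm_all (hF : D.Fa) {y z : Orb P.sι → ℤ} (hy : IsRoot P.cs P.hC y) (hz : IsRoot P.cs P.hC z) (hyz : y ≠ -z)
    {a b : G} (ha : a ∈ P.X y) (hb : b ∈ P.X z) : ⁅a, b⁆ ∈ btw P.cs P.hC P.X y z := by
  have := P.osym.finite_W
  obtain ⟨w, hwy, hwz⟩ := exists_pos_pair hy hz hyz
  obtain ⟨ω, rfl⟩ := P.cs.wordProd_surjective w
  set g := D.nwl (RC.OSym.fl ω) with hg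
  have h5 := P.comm_pos hF (hy.act _) (hz.act _) hwy hwz (a := g * a * g⁻¹) (b := g * b * g⁻¹)
    (by rw [← cj_nwl]; exact conj_mem_cj.2 ha) (by rw [← cj_nwl]; exact conj_mem_cj.2 hb)
  have h6 : ⁅g * a * g⁻¹, g * b * g⁻¹⁆ = g * ⁅a, b⁆ * g⁻¹ := by simp only [commutatorElement_def]; group
  have h7 : btw P.cs P.hC P.X (rep P.cs P.hC (P.cs.wordProd ω) y) (rep P.cs P.hC (P.cs.wordProd ω) z) ≤
      cj g (btw P.cs P.hC P.X y z) := by
    refine iSup_le ?_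
    rintro ⟨v, hv⟩
    have h8 := hv.act (P.cs.wordProd ω)⁻¹
    rw [rep_inv_apply, rep_inv_apply] at h8
    have h9 := cj_mono g (le_btw_of (X := P.X) h8)
    rwa [cj_nwl, rep_apply_inv] at h9
  rw [h6] at h5
  exact conj_mem_cj.1 (h7 h5)

omit [Infinite k] [Fact p.Prime] [CharP k p] in
theorem tw_ne_zero {j : Orb P.sι} {v : ι → k} (hv : ∀ i, orb P.sι i = j → v (P.sι i) = v i ^ p ^ P.f) {i i' : ι}
    (hi : orb P.sι i = j) (hi' : orb P.sι i' = j) (h : v i ≠ 0) : v i' ≠ 0 := by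
  obtain ⟨m, rfl⟩ := exists_pow_of_orb (hi.trans hi'.symm)
  clear hi'
  induction m with
  | zero => exact h
  | succ m ih => rw [pow_succ', Equiv.Perm.mul_apply, hv _ (by rw [orb_pow, hi])]; exact pow_ne_zero _ ih

theorem neg_pow_q (a : k) : (-a) ^ p ^ P.f = -a ^ p ^ P.f := by rw [neg_pow, neg_one_pow_char_pow, neg_one_mul]

theorem rk1 (j : Orb P.sι) {u : G} (hu : u ∈ P.X (-sr j)) (h1 : u ≠ 1) :
    ∃ a ∈ P.X (sr j), ∃ t ∈ P.H, ∃ b ∈ P.X (sr j), u = a * t * P.no j * b := by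
  classical
  obtain ⟨w, hw, rfl⟩ := P.mem_X_neg.1 hu
  have h2 : ∀ i, orb P.sι i = j → w i ≠ 0 := by
    intro i hi h0
    apply h1
    rw [← P.po_one j]
    exact P.po_congr fun i' hi' => by
      rw [by_contra fun h : ¬ w i' = 0 => P.tw_ne_zero hw hi' hi h h0, D.y_zero]
  let c : ι → kˣ := fun i => if h : orb P.sι i = j then Units.mk0 (-(w i)⁻¹) (neg_ne_zero.2 (inv_ne_zero (h2 i h))) else 1
  have hc : ∀ i, orb P.sι i = j → (c i : k) = -(w i)⁻¹ := fun i hi => by simp only [c, dif_pos hi, Units.val_mk0]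
  have hc' : ∀ i, orb P.sι i = j → (c (P.sι i) : k) = c i ^ p ^ P.f := fun i hi => by
    rw [hc i hi, hc _ (by rw [orb_apply, hi]), hw i hi, neg_pow_q, inv_pow]
  have h3 := P.no_u j c
  have h4 : P.yo j (fun i => -(c i : k)⁻¹) = P.yo j w := P.po_congr fun i hi => by
    simp only [hc i hi, inv_neg, neg_neg, inv_inv]
  have h5 : P.xo j (fun i => c i) ∈ P.X (sr j) := P.mem_X_sr.2 ⟨_, hc', rfl⟩
  have h6 : P.ho j c⁻¹ ∈ P.H := P.ho_mem_H fun i hi => by
    rw [Pi.inv_apply, Pi.inv_apply, inv_pow, inv_inj]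
    exact Units.ext (hc' i hi)
  refine ⟨_, inv_mem h5, _, (Subgroup.mem_normalizer_iff.1 (P.no_mem_normalizer j) _).1 h6, _, inv_mem h5, ?_⟩
  rw [h4] at h3
  rw [mul_assoc _ _ (P.no j), inv_mul_cancel_right, ← h3]
  group

theorem xo_pow (j : Orb P.sι) (v : ι → k) : P.xo j v ^ p = 1 := by
  have key : ∀ n : ℕ, P.xo j (n • v) = P.xo j v ^ n := fun n => by
    induction n with
    | zero => rw [zero_smul, pow_zero, xo_zero]
    | succ n ih => rw [succ_nsmul, xo_add, ih, pow_succ]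
  rw [← key, ← Nat.cast_smul_eq_nsmul k, CharP.cast_eq_zero, zero_smul, xo_zero]

theorem xo_one_mem (j : Orb P.sι) : P.xo j 1 ∈ P.X (sr j) := P.mem_X_sr.2 ⟨1, fun _ _ => by simp, rfl⟩

theorem yo_one_mem (j : Orb P.sι) : P.yo j (-1) ∈ P.X (-sr j) :=
  P.mem_X_neg.2 ⟨-1, fun _ _ => by simp [neg_pow_q], rfl⟩

theorem no_mem (j : Orb P.sι) : P.no j ∈ P.X (sr j) ⊔ P.X (-sr j) := by
  rw [no_def]
  exact mul_mem (mul_mem (Subgroup.mem_sup_left (P.xo_one_mem j)) (Subgroup.mem_sup_right (P.yo_one_mem j)))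
    (Subgroup.mem_sup_left (P.xo_one_mem j))

theorem no_sq (j : Orb P.sι) : P.no j * P.no j = D.κ fun i => if orb P.sι i = j then -1 else 1 := by
  rw [← P.ho_eq j fun _ => -1, no, ← P.po_mul j D.nw_mem_Lo D.nw_mem_Lo]
  exact P.po_congr fun i _ => D.nw_sq i

theorem notp (j : Orb P.sι) : ¬ IsPGroup p ↥(P.X (sr j) ⊔ P.X (-sr j)) := by
  intro hp
  have key : ∀ g ∈ P.X (sr j) ⊔ P.X (-sr j), ∀ n : ℕ, n.Coprime p → g ^ n = 1 → g = 1 := by
    intro g hg n hn e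
    obtain ⟨a, ha⟩ := hp ⟨g, hg⟩
    have h1 : g ^ p ^ a = 1 := congrArg Subtype.val ha
    rw [← orderOf_eq_one_iff]
    exact Nat.eq_one_of_dvd_coprimes (hn.pow_right a) (orderOf_dvd_of_pow_eq_one e) (orderOf_dvd_of_pow_eq_one h1)
  have h0 := P.Δ_no j (rp j)
  rw [if_pos (orb_rp j)] at h0
  by_cases h2 : p = 2
  · subst h2
    have h3 : P.no j * P.no j = 1 := by
      rw [no_sq, ← map_one D.κ]
      congr 1
      funext i
      split_ifs
      · exact Units.ext (by simpa using CharTwo.neg_eq (1 : k))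
      · rfl
    have h4 : P.yo j (-1) * P.xo j 1 * P.yo j (-1) = P.no j := by
      have h5 := P.no_xo j 1
      conv_rhs at h5 => rw [no_def, ← mul_assoc, ← mul_assoc]
      exact (mul_right_cancel h5).symm
    have h5 := key (P.xo j 1 * P.yo j (-1))
      (mul_mem (Subgroup.mem_sup_left (P.xo_one_mem j)) (Subgroup.mem_sup_right (P.yo_one_mem j))) 3 (by norm_num) (by
        rw [← h3]
        conv_rhs => rw [← h4]; enter [1]; rw [h4, no_def]
        simp only [pow_succ, pow_zero, one_mul, mul_assoc])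
    rw [no_def, h5, D.Δ_U _ (P.xo_mem_U j 1), D.Δ_one] at h0
    exact one_ne_zero h0
  · have h3 := key _ (P.no_mem j) (2 ^ 2)
      (Nat.Coprime.pow_left 2 ((Nat.coprime_primes Nat.prime_two Fact.out).2 (Ne.symm h2))) (by
        rw [show 2 ^ 2 = 2 * 2 from rfl, pow_mul, sq (P.no j), no_sq, ← map_pow, ← map_one D.κ]
        congr 1
        funext i
        rw [Pi.pow_apply]
        split_ifs <;> simp)
    rw [h3, D.Δ_one] at h0
    exact one_ne_zero h0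

/-- the torus in coordinates -/
def QQ : Subgroup (ι → kˣ) := P.Fx.comap D.κ

theorem mem_QQ {c : ι → kˣ} : c ∈ P.QQ ↔ ∀ i, c (P.sι i) = c i ^ p ^ P.f := P.κ_fix

theorem H_eq : P.H = P.QQ.map D.κ := by
  rw [QQ, Subgroup.map_comap_eq]; rfl

theorem card_H : Nat.card P.H = Nat.card P.QQ := by
  rw [H_eq]; exact Subgroup.card_map_of_injective D.κ_inj

end Tws

namespace Tws

variable [IsAlgClosed k] [Fact p.Prime] [CharP k p] {D : RDat p ι Φ k G} (P : Tws D)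

theorem card_fix (j : Orb P.sι) : Nat.card {a : k // a ^ (p ^ P.f) ^ ol j = a} = (p ^ P.f) ^ ol j := by
  rw [← pow_mul]
  exact card_frob_fix (Nat.mul_pos P.f_pos (ol_pos j))

theorem finite_fix (j : Orb P.sι) : Finite {a : k // a ^ (p ^ P.f) ^ ol j = a} :=
  Nat.finite_of_card_ne_zero (by rw [card_fix]; exact pow_ne_zero _ (pow_ne_zero _ (Fact.out : p.Prime).ne_zero))

theorem finite_QQ : Finite P.QQ := by
  have := P.finite_fix
  refine Finite.of_injective (β := ∀ j : Orb P.sι, {a : k // a ^ (p ^ P.f) ^ ol j = a})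
    (fun c j => ⟨c.1 (rp j), by exact_mod_cast congrArg Units.val (tw_ol (P.mem_QQ.1 c.2) j)⟩) fun c d h => ?_
  refine Subtype.ext (funext fun i => ?_)
  rw [tw_ex (P.mem_QQ.1 c.2) i, tw_ex (P.mem_QQ.1 d.2) i]
  congr 1
  exact Units.ext (congrArg Subtype.val (congrFun h (orb P.sι i)))

theorem cop_QQ : (Nat.card P.QQ).Coprime p := by
  have := P.finite_QQ
  rw [Nat.coprime_comm, (Fact.out : p.Prime).coprime_iff_not_dvd]
  intro h
  obtain ⟨c, hc⟩ := exists_prime_orderOf_dvd_card' p h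
  have h1 : c = 1 := Subtype.ext (funext fun i => Units.ext (by
    have h2 := congrArg (fun d : P.QQ => ((d.1 i : kˣ) : k)) (pow_orderOf_eq_one c)
    simp only [hc, Subgroup.coe_pow, Pi.pow_apply, Units.val_pow_eq_pow_val, Subgroup.coe_one, Pi.one_apply,
      Units.val_one] at h2
    exact frobenius_inj k p (by rw [frobenius_def, h2]; simp)))
  rw [h1, orderOf_one] at hc
  exact (Fact.out : p.Prime).one_lt.ne hc

/-- **root group data** -/
theorem rgd (hF : D.Fa) : RGD P.cs P.hC p P.H P.no P.X where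
  nsys := P.nsys
  conj j z _ := P.cj_no j z
  tor z _ _ ht := P.cj_tor ht z
  comm _ _ hy hz _ h _ ha _ hb := P.comm_all hF hy hz h ha hb
  rk1 j _ hu := P.rk1 j hu
  pgrp j g := by
    obtain ⟨v, -, e⟩ := P.mem_X_sr.1 g.2
    exact ⟨1, Subtype.ext (by rw [pow_one, Subgroup.coe_pow, e, xo_pow]; rfl)⟩
  notp := P.notp
  tcop := by rw [card_H]; exact P.cop_QQ

end Tws

end Cfsg.Agent.TwoF.DC
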