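import Cfsg.Agent.TwoF.DC.Fin.Rgd
import Cfsg.Agent.TwoF.DC.Fin.Low
import Cfsg.Agent.H564.TWP.Rgd
import Cfsg.Agent.Nodes.CardSup
import Cfsg.Agent.KFacts.RgdSyl

/-!
# TwoF, defining characteristic: the finite groups, the system (helper7)

* `Tws.U_fix`, `Um_fix`, `TT_eq`, `finite_TT`, `card_U` ;
* `Tws.sys` : the rank one system of `TT`, `Tws.hyp`, `wt_le`, `wt_inj`, `syl`.
-/

set_option autoImplicit false
set_option linter.unusedSectionVars false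

namespace Cfsg.Agent.TwoF.DC

open Finset Cfsg.Agent.H45.Uni Cfsg.Agent.H45.UniE CoxeterSystem Cfsg.Agent.ChevalleyStructure.CoxeterGeom
  Cfsg.Agent.Tits.Roots Cfsg.Agent.Nodes.Reps Cfsg.Agent.Nodes.BNOf Cfsg.Agent.Nodes.RGDLib Cfsg.Agent.Nodes.Bruhat
  Cfsg.Agent.Nodes.OppDec Cfsg.Agent.H564.TWP

/-! ### digits -/

theorem digits_lt {q : ℕ} {g : ℕ → ℕ} (hg : ∀ m, g m < q) (o : ℕ) : ∑ m ∈ range o, q ^ m * g m < q ^ o := by
  induction o with
  | zero => simp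
  | succ o ih =>
    rw [Finset.sum_range_succ, pow_succ]
    nlinarith [Nat.mul_le_mul_left (q ^ o) (Nat.succ_le_of_lt (hg o))]

theorem digits_inj {q : ℕ} {g g' : ℕ → ℕ} (hg : ∀ m, g m < q) (hg' : ∀ m, g' m < q) (o : ℕ)
    (h : ∑ m ∈ range o, q ^ m * g m = ∑ m ∈ range o, q ^ m * g' m) : ∀ m < o, g m = g' m := by
  induction o with
  | zero => simp
  | succ o ih =>
    rw [Finset.sum_range_succ, Finset.sum_range_succ] at h
    have h1 := congrArg (· % q ^ o) h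
    simp only [Nat.add_mul_mod_self_left, Nat.mod_eq_of_lt (digits_lt hg o), Nat.mod_eq_of_lt (digits_lt hg' o)] at h1
    intro m hm
    rcases (Nat.lt_succ_iff.1 hm).lt_or_eq with h2 | rfl
    · exact ih h1 m h2
    · rw [h1] at h
      exact Nat.eq_of_mul_eq_mul_left (Nat.pow_pos (Nat.zero_lt_of_lt (hg 0))) (Nat.add_left_cancel h)

theorem digits_sum (q a o : ℕ) : ∑ m ∈ range o, q ^ m * (a / q ^ m % q) = a % q ^ o := by
  induction o with
  | zero => simp [Nat.mod_one]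
  | succ o ih => rw [Finset.sum_range_succ, ih, Nat.mod_pow_succ]

theorem pow_pow_mod {M : Type*} [Monoid M] {a : M} {q o : ℕ} (ha : a ^ q ^ o = a) (m : ℕ) :
    a ^ q ^ (m % o) = a ^ q ^ m := by
  have h1 : ∀ n, a ^ q ^ (o * n) = a := fun n => by
    induction n with
    | zero => simp
    | succ n ih => rw [Nat.mul_succ, pow_add, pow_mul, ih, ha]
  conv_rhs => rw [← Nat.div_add_mod m o, pow_add, pow_mul, h1]

theorem wt_orb {ι : Type} [Fintype ι] [DecidableEq ι] {σ : Equiv.Perm ι} (q : ℕ) (l : ι → ℕ) (j : Orb σ) :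
    TSys.wt (orb σ) (fun i => q ^ ex σ i) l j = ∑ m ∈ range (ol j), q ^ m * l ((σ ^ m) (rp j)) := by
  rw [← sum_oset j fun m => q ^ m * l ((σ ^ m) (rp j))]
  exact Finset.sum_congr rfl fun i hi => by rw [← mem_oset.1 hi, pow_ex]

variable {p : ℕ} {ι Φ k G : Type} [Fintype ι] [DecidableEq ι] [Fintype Φ] [DecidableEq Φ] [Field k] [Group G]

namespace Tws

variable [IsAlgClosed k] [Fact p.Prime] [CharP k p] {D : RDat p ι Φ k G} (P : Tws D) (hF : D.Fa)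

theorem one_lt_q : 1 < p ^ P.f := Nat.one_lt_pow P.f_pos.ne' (Fact.out : p.Prime).one_lt

include hF in
theorem U_fix : D.U ⊓ P.Fx = RGD.Sup P.X (RGD.Pos P.cs P.hC) := by
  refine le_antisymm (le_trans (inf_le_inf_right _ ?_) (P.fix_UP hF univ (fun _ _ _ _ _ _ _ _ _ _ => mem_univ _)
    (fun _ _ _ _ => mem_univ _) fun b _ => RGD.le_Sup ⟨P.osym.isRoot_rv _, RC.rv_nonneg b⟩))
    (RGD.Sup_le fun z hz => le_inf (P.X_le_U hz.2) inf_le_right)
  exact Subgroup.closure_mono (by rintro _ ⟨b, t, rfl⟩; exact ⟨b, mem_coe.2 (mem_univ b), t, rfl⟩)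

theorem τ_Sup {S S' : Set (Orb P.sι → ℤ)} (h : ∀ z ∈ S, -z ∈ S') {g : G} (hg : g ∈ RGD.Sup P.X S) :
    D.τ g ∈ RGD.Sup P.X S' := by
  refine Subgroup.iSup_induction (C := fun g => D.τ g ∈ RGD.Sup P.X S') _ hg
    (fun z g hg => RGD.le_Sup (h z.1 z.2) (P.τ_X hg)) (by rw [D.τ_one]; exact one_mem _) fun a b h1 h2 => ?_
  rw [D.τ_mul]; exact mul_mem h2 h1

include hF in
theorem Um_fix : D.Um ⊓ P.Fx = UN P.cs P.hC P.X := by
  refine le_antisymm (fun g hg => ?_) (RGD.Sup_le fun z hz => le_inf (P.X_le_Um hz.2) inf_le_right)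
  have h1 : D.τ g ∈ D.U ⊓ P.Fx := ⟨D.τ_Um hg.1, P.τ_Fx hg.2⟩
  rw [P.U_fix hF] at h1
  rw [← D.τ_τ g]
  exact P.τ_Sup (S' := Neg P.cs P.hC) (fun z hz => ⟨hz.1.neg, neg_nonpos.2 hz.2⟩) h1

theorem X_le_TT {z : Orb P.sι → ℤ} (hz : IsRoot P.cs P.hC z) : P.X z ≤ P.TT := fun _ hg =>
  hz.pos_or_neg.elim (fun h => P.mem_TT_U (P.X_le_U h hg) (X_fix hg)) fun h => P.mem_TT_Um (P.X_le_Um h hg) (X_fix hg)

include hF in
theorem TT_eq_G1 : P.TT = G1 P.cs P.hC P.X := by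
  refine le_antisymm ((Subgroup.closure_le _).2 ?_) (RGD.Sup_le fun z hz => P.X_le_TT hz)
  rintro g ⟨hg | hg, hg'⟩
  · exact RGD.Sup_mono (fun z hz => hz.1) ((P.U_fix hF).le ⟨hg, hg'⟩)
  · exact RGD.Sup_mono (fun z hz => hz.1) ((P.Um_fix hF).le ⟨hg, hg'⟩)

include hF in
theorem TT_eq_iSup : P.TT = ⨆ j, (P.X (sr j) ⊔ P.X (-sr j)) := by
  rw [P.TT_eq_G1 hF, rgd_G1_eq (P.rgd hF) fun j => le_iSup (fun j => P.X (sr j) ⊔ P.X (-sr j)) j (P.no_mem j)]

include hF in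
/-- **generators of the finite group** -/
theorem TT_le {K : Subgroup G} (h : ∀ (j : Orb P.sι) (v : ι → k), (∀ i, orb P.sι i = j → v (P.sι i) = v i ^ p ^ P.f) →
    P.xo j v ∈ K ∧ P.yo j v ∈ K) : P.TT ≤ K := by
  rw [P.TT_eq_iSup hF]
  refine iSup_le fun j => sup_le (fun g hg => ?_) fun g hg => ?_
  · obtain ⟨v, hv, rfl⟩ := P.mem_X_sr.1 hg
    exact (h j v hv).1
  · obtain ⟨v, hv, rfl⟩ := P.mem_X_neg.1 hg
    exact (h j v hv).2

theorem no_mem_TT (j : Orb P.sι) : P.no j ∈ P.TT :=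
  (sup_le (P.X_le_TT (isRoot_sr _ _ j)) (P.X_le_TT (isRoot_sr _ _ j).neg) : _ ≤ P.TT) (P.no_mem j)

theorem ho_mem_TT {j : Orb P.sι} {c : ι → kˣ} (hc : ∀ i, orb P.sι i = j → c (P.sι i) = c i ^ p ^ P.f) :
    P.ho j c ∈ P.TT := by
  have hc' : ∀ i, orb P.sι i = j → (c (P.sι i) : k) = c i ^ p ^ P.f := fun i hi => by rw [hc i hi]; rfl
  have h1 := P.rank_o j 1 (fun i => c i - 1) c fun i _ => by simp
  have hx : ∀ v : ι → k, (∀ i, orb P.sι i = j → v (P.sι i) = v i ^ p ^ P.f) → P.xo j v ∈ P.TT := fun v hv =>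
    P.mem_TT_U (P.xo_mem_U j v) (P.xo_fix hv)
  have hy : ∀ v : ι → k, (∀ i, orb P.sι i = j → v (P.sι i) = v i ^ p ^ P.f) → P.yo j v ∈ P.TT := fun v hv =>
    P.mem_TT_Um (P.yo_mem_Um j v) (P.yo_fix hv)
  have h2 := mul_mem (mul_mem (inv_mem (hy (fun i => (c i - 1) / c i) fun i hi => by
    rw [hc' i hi, div_pow, sub_pow_char_pow, one_pow])) (mul_mem (hx 1 fun _ _ => by simp)
    (hy (fun i => c i - 1) fun i hi => by rw [hc' i hi, sub_pow_char_pow, one_pow])))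
    (inv_mem (hx (fun i => (1 : ι → k) i / c i) fun i hi => by simp [hc' i hi]))
  rw [h1] at h2
  simpa [mul_assoc] using h2

theorem H_le {K : Subgroup G} (h : ∀ (j : Orb P.sι) (c : ι → kˣ), (∀ i, c (P.sι i) = c i ^ p ^ P.f) → P.ho j c ∈ K) :
    P.H ≤ K := by
  rw [H_eq]
  rintro _ ⟨c, hc, rfl⟩
  have h1 : c = ∏ j : Orb P.sι, fun i => if orb P.sι i = j then c i else 1 := by
    funext i
    simp [Finset.prod_apply]
  rw [h1]
  refine Finset.prod_induction _ (fun d => D.κ d ∈ K) (fun a b ha hb => by rw [map_mul]; exact mul_mem ha hb)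
    (by rw [map_one]; exact one_mem _) fun j _ => ?_
  rw [← ho_eq]
  exact h j c (P.mem_QQ.1 hc)

theorem H_le_TT : P.H ≤ P.TT := P.H_le fun _ _ hc => P.ho_mem_TT fun i _ => hc i

include hF in
theorem GG_eq : Cfsg.Agent.Nodes.Bruhat.GG P.cs P.hC P.H P.X = P.TT := by
  rw [Cfsg.Agent.Nodes.Bruhat.GG, P.TT_eq_G1 hF]
  exact sup_eq_right.2 (P.H_le_TT.trans (P.TT_eq_G1 hF).le)

include hF in
theorem card_U_le : Finite ↥(D.U ⊓ P.Fx) ∧ Nat.card ↥(D.U ⊓ P.Fx) ≤ (p ^ P.f) ^ Fintype.card Φ := by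
  obtain ⟨h1, h2⟩ := D.deg1_card hF P.f P.Θ _ _ P.tw P.f_pos (D.U ⊓ P.Fx) inf_le_left 1 (one_mem _)
    fun x hx => by rw [one_mul, inv_one, mul_one]; exact hx.2
  refine ⟨h1, h2.trans ?_⟩
  rw [← pow_mul]
  refine Nat.pow_le_pow_right (Fact.out : p.Prime).pos (Nat.mul_le_mul_left _ ?_)
  exact (Submodule.finrank_le _).trans (Module.finrank_fintype_fun_eq_card k).le

theorem finite_H : Finite P.H := by
  have := P.finite_QQ
  exact Nat.finite_of_card_ne_zero (by rw [card_H]; exact Nat.card_pos.ne')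

include hF in
theorem finite_TT : Finite P.TT := by
  have := P.osym.finite_W
  have hU : (RGD.Sup P.X (RGD.Pos P.cs P.hC) : Set G).Finite := by rw [← P.U_fix hF]; exact (P.card_U_le hF).1
  have hH : (P.H : Set G).Finite := P.finite_H
  have hB : (RGD.B P.cs P.hC P.H P.X : Set G).Finite := (hH.image2 (· * ·) hU).subset fun x hx => by
    obtain ⟨t, ht, u, hu, rfl⟩ := (P.rgd hF).mem_B.1 hx
    exact ⟨t, ht, u, hu, rfl⟩
  choose n hn using exists_rp P.cs (P.rgd hF).nsys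
  refine ((hB.image2 (· * ·) (Set.finite_range n)).image2 (· * ·) hB).subset fun g hg => ?_
  rw [← P.GG_eq hF] at hg
  obtain ⟨w, b, hb, m, hm, b', hb', rfl⟩ := (mem_GG (P.rgd hF)).1 hg
  exact ⟨_, ⟨b, hb, n w, ⟨w, rfl⟩, rfl⟩, _, mul_mem (RGD.T_le_B ((hn w).unique hm)) hb', by simp [mul_assoc]⟩

include hF in
theorem card_U' : Nat.card ↥(D.U ⊓ P.Fx) = (p ^ P.f) ^ Fintype.card Φ := by
  classical
  have := P.osym.finite_W
  obtain ⟨h1, h2⟩ := P.card_U_le hF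
  refine le_antisymm h2 ?_
  have h3 : ((univ.image fun b => P.rv (true, b) : Finset _) : Set (Orb P.sι → ℤ)) = RGD.Pos P.cs P.hC := by
    ext z
    simp only [coe_image, coe_univ, Set.image_univ, Set.mem_range]
    refine ⟨by rintro ⟨b, rfl⟩; exact ⟨P.osym.isRoot_rv _, RC.rv_nonneg b⟩, fun hz => ?_⟩
    obtain ⟨⟨e, b⟩, rfl⟩ := P.osym.isRoot_iff.1 hz.1
    obtain rfl : e = true := RC.pos_of_rv (x := (e, b)) hz.2
    exact ⟨b, rfl⟩
  rw [P.U_fix hF, ← h3, Cfsg.Agent.Nodes.CardSup.card_sup (P.rgd hF) h3.le (by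
    rw [h3]; exact fun x hx y hy z hz => ⟨hz.1, RGD.nonneg_of_btwn hx.2 hy.2 hz⟩), ← Finset.card_univ,
    Finset.card_eq_sum_card_image fun b => P.rv (true, b), ← Finset.prod_pow_eq_pow_sum]
  refine Finset.prod_le_prod' fun z hz => ?_
  obtain ⟨b, -, rfl⟩ := Finset.mem_image.1 hz
  obtain ⟨B, hB, hB', hc⟩ := D.deg1_sub hF P.f P.Θ _ _ P.tw P.f_pos (univ.filter fun a => P.rv (true, a) = P.rv (true, b))
    (fun a ha => by simpa [rv, P.osym.toSym.rv_θ] using ha)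
    fun a ha a' ha' => RDat.z_comm P.osym ((mem_filter.1 ha).2.trans (mem_filter.1 ha').2.symm)
  rw [← pow_mul, ← hc]
  have h4 : P.X (P.rv (true, b)) ≤ D.U ⊓ P.Fx := le_inf (P.X_le_U (RC.rv_nonneg b)) inf_le_right
  have : Finite (P.X (P.rv (true, b))) := Finite.of_injective _ (Subgroup.inclusion_injective h4)
  refine Subgroup.card_le_of_le (le_inf (hB.trans ((Subgroup.closure_le _).2 ?_)) hB')
  rintro _ ⟨a, ha, t, rfl⟩
  exact D.ζ_mem_US (y := (true, a)) (mem_filter.1 ha).2 t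

/-- the elements of a class of positive roots -/
theorem exists_cls (b : Φ) : ∃ (j : Orb P.sι) (c : k) (l : List (Φ × k × ℕ)), c ≠ 0 ∧
    (∀ e ∈ l, D.ht e.1 = D.ht b ∧ p ^ P.f ≤ e.2.2 ∧ e.2.2 ≤ (p ^ P.f) ^ (ol j - 1)) ∧
    ∀ a : k, a ^ (p ^ P.f) ^ ol j = a → D.z b (c * a) * (l.map fun e => D.z e.1 (e.2.1 * a ^ e.2.2)).prod ∈ D.U ⊓ P.Fx := by
  obtain ⟨w, j, hw⟩ := P.osym.isRoot_rv (true, b)
  obtain ⟨ω, rfl⟩ := P.cs.wordProd_surjective w
  obtain ⟨i, hi, e⟩ := P.osym.eq_zi_of_rv (x := D.R.srl (RC.OSym.fl ω).reverse (true, b)) (j := j)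
    (rep_injective_apply _ P.hC (P.cs.wordProd ω) (by rw [← P.osym.rv_srl_fl, RC.srl_srl_rev, hw]))
  have h1 : ∀ i', ∃ (b' : Φ) (ε : kˣ), (orb P.sι i' = j → D.ht b' = D.ht b ∧
      ∀ t, D.nwl (RC.OSym.fl ω) * D.x i' t * (D.nwl (RC.OSym.fl ω))⁻¹ = D.z b' (ε * t)) ∧ (i' = i → b' = b) := by
    intro i'
    obtain ⟨ε, hε⟩ := D.nwl_ζ (RC.OSym.fl ω) (true, D.R.zi i')
    refine ⟨(D.R.srl (RC.OSym.fl ω) (true, D.R.zi i')).2, ε, fun hi' => ?_, fun h => by rw [h, ← e, RC.srl_srl_rev]⟩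
    have h2 := P.osym.rv_srl_fl ω (true, D.R.zi i')
    rw [RC.rv_zi, hi', ← hw] at h2
    generalize D.R.srl (RC.OSym.fl ω) (true, D.R.zi i') = y at h2 hε
    obtain ⟨e', b'⟩ := y
    obtain rfl : e' = true := RC.pos_of_rv (x := (e', b')) (h2 ▸ RC.rv_nonneg b)
    exact ⟨P.ht_eq_of_rv h2, fun t => by rw [← RDat.ζ_x, hε, mul_inv_cancel_right]; rfl⟩
  choose β ε hβ hβ' using h1
  have hq := P.one_lt_q
  have hex : ∀ i', orb P.sι i' = j → ex P.sι i' < ol j := fun i' hi' => hi' ▸ ex_lt i'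
  refine ⟨j, ε i, ((oset j).erase i).toList.map fun i' =>
    (β i', ε i', (p ^ P.f) ^ ((ol j - ex P.sι i + ex P.sι i') % ol j)), (ε i).ne_zero, fun e he => ?_, fun a ha => ?_⟩
  · obtain ⟨i', hi', rfl⟩ := List.mem_map.1 he
    obtain ⟨h2, h3⟩ := Finset.mem_erase.1 (Finset.mem_toList.1 hi')
    rw [mem_oset] at h3
    refine ⟨(hβ i' h3).1, Nat.le_self_pow (fun h4 => h2 ?_) _,
      Nat.pow_le_pow_right hq.le (Nat.le_sub_one_of_lt (Nat.mod_lt _ (ol_pos j)))⟩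
    have h5 := hex i hi
    have h6 := hex i' h3
    obtain ⟨r, hr⟩ := Nat.dvd_of_mod_eq_zero h4
    have h7 : r = 1 := by
      rcases r with _ | _ | r
      · omega
      · rfl
      · nlinarith [Nat.sub_le (ol j) (ex P.sι i)]
    rw [← pow_ex (σ := P.sι) i', ← pow_ex (σ := P.sι) i, h3, hi, show ex P.sι i' = ex P.sι i by subst h7; omega]
  · set v : ι → k := fun i' => a ^ (p ^ P.f) ^ ((ol j - ex P.sι i + ex P.sι i') % ol j) with hv
    have hv' : ∀ i', v i' = (a ^ (p ^ P.f) ^ (ol j - ex P.sι i)) ^ (p ^ P.f) ^ ex P.sι i' := fun i' => by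
      rw [hv, ← pow_mul, ← pow_add]
      exact pow_pow_mod ha _
    have h2 : P.xo j v ∈ P.Fx := P.xo_fix fun i' hi' => by
      rw [hv', hv']
      exact tw_mk (by rw [hi', ← pow_mul, mul_comm, pow_mul, ha])
    have h3 : D.z b (ε i * a) * ((((oset j).erase i).toList.map fun i' =>
        (β i', (ε i' : k), (p ^ P.f) ^ ((ol j - ex P.sι i + ex P.sι i') % ol j))).map
          fun e => D.z e.1 (e.2.1 * a ^ e.2.2)).prod = D.nwl (RC.OSym.fl ω) * P.xo j v * (D.nwl (RC.OSym.fl ω))⁻¹ := by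
      rw [xo, P.po_split hi fun i => D.x_mem_Lo i _, ← MulAut.conj_apply, map_mul, map_list_prod, List.map_map,
        List.map_map, MulAut.conj_apply, (hβ i hi).2, hβ' i rfl]
      congr 1
      · simp only [hv, Nat.sub_add_cancel (hex i hi).le, Nat.mod_self, pow_zero, pow_one]
      · exact congrArg List.prod (List.map_congr_left fun i' hi' =>
          ((hβ i' (mem_oset.1 (Finset.mem_of_mem_erase (Finset.mem_toList.1 hi')))).2 _).symm)
    refine ⟨mul_mem (D.z_mem_U _ _) (Subgroup.list_prod_mem _ fun _ hy => ?_), ?_⟩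
    · obtain ⟨e, -, rfl⟩ := List.mem_map.1 hy
      exact D.z_mem_U _ _
    · rw [h3]
      exact P.conj_fix (P.nwl_fl_fix ω) h2

/-! ### the system -/

/-- the cyclic groups -/
noncomputable def CC (j : Orb P.sι) : Subgroup kˣ := (powMonoidHom ((p ^ P.f) ^ ol j) : kˣ →* kˣ).eqLocus (MonoidHom.id kˣ)

theorem mem_CC {j : Orb P.sι} {c : kˣ} : c ∈ P.CC j ↔ c ^ (p ^ P.f) ^ ol j = c := Iff.rfl

theorem card_CC (j : Orb P.sι) : Finite (P.CC j) ∧ Nat.card (P.CC j) + 1 = (p ^ P.f) ^ ol j := by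
  have := P.finite_fix j
  have h0 : (0 : k) ^ (p ^ P.f) ^ ol j = 0 := zero_pow (pow_ne_zero _ (Nat.ne_zero_of_lt P.one_lt_q))
  let e : Option (P.CC j) → {a : k // a ^ (p ^ P.f) ^ ol j = a} := fun o =>
    o.elim ⟨0, h0⟩ fun c => ⟨c.1, by exact_mod_cast congrArg Units.val (P.mem_CC.1 c.2)⟩
  have he : Function.Bijective e := by
    refine ⟨?_, ?_⟩
    · rintro (_ | c) (_ | d) h
      · rfl
      · exact (d.1.ne_zero (congrArg Subtype.val h).symm).elim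
      · exact (c.1.ne_zero (congrArg Subtype.val h)).elim
      · exact congrArg some (Subtype.ext (Units.ext (congrArg Subtype.val h)))
    · rintro ⟨a, ha⟩
      by_cases h : a = 0
      · exact ⟨none, Subtype.ext h.symm⟩
      · exact ⟨some ⟨Units.mk0 a h, P.mem_CC.2 (Units.ext (by simpa using ha))⟩, rfl⟩
  have h1 : Finite (P.CC j) := Finite.of_injective _ (he.1.comp (Option.some_injective _))
  exact ⟨h1, by rw [← Finite.card_option, Nat.card_eq_of_bijective e he, card_fix]⟩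

/-- the coroot homomorphisms in coordinates -/
noncomputable def cor (j : Orb P.sι) : P.CC j →* (ι → kˣ) :=
  MonoidHom.pi fun i => if orb P.sι i = j then (powMonoidHom ((p ^ P.f) ^ ex P.sι i)).comp (P.CC j).subtype else 1

theorem cor_apply (j : Orb P.sι) (b : P.CC j) (i : ι) :
    P.cor j b i = if orb P.sι i = j then (b : kˣ) ^ (p ^ P.f) ^ ex P.sι i else 1 := by
  rw [cor, MonoidHom.pi_apply]
  split_ifs <;> rfl

theorem κ_cor (j : Orb P.sι) (b : P.CC j) : D.κ (P.cor j b) = P.ho j fun i => (b : kˣ) ^ (p ^ P.f) ^ ex P.sι i := by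
  rw [ho_eq]
  exact congrArg D.κ (funext (P.cor_apply j b))

theorem κ_cor_mem (j : Orb P.sι) (b : P.CC j) : D.κ (P.cor j b) ∈ P.H := by
  rw [κ_cor]
  exact P.ho_mem_H fun i hi => tw_mk (by rw [hi]; exact b.2)

/-- the coroot homomorphisms -/
noncomputable def hT (j : Orb P.sι) : P.CC j →* P.TT :=
  (D.κ.comp (P.cor j)).codRestrict P.TT fun b => P.H_le_TT (P.κ_cor_mem j b)

theorem ho_eq_cor {j : Orb P.sι} {c : ι → kˣ} (hc : ∀ i, orb P.sι i = j → c (P.sι i) = c i ^ p ^ P.f) :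
    ∃ b : P.CC j, (b : kˣ) = c (rp j) ∧ P.ho j c = D.κ (P.cor j b) := by
  have h1 : ∀ i, (fun i => if orb P.sι i = j then c i else 1) (P.sι i) =
      (fun i => if orb P.sι i = j then c i else 1) i ^ p ^ P.f := fun i => by
    simp only [orb_apply]
    split_ifs with h
    · exact hc i h
    · rw [one_pow]
  have h2 := tw_ol (σ := P.sι) (v := fun i => if orb P.sι i = j then c i else 1) h1 j
  simp only [orb_rp, if_true] at h2
  refine ⟨⟨_, h2⟩, rfl, ?_⟩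
  rw [κ_cor]
  refine P.po_congr fun i hi => ?_
  have h3 := tw_ex (σ := P.sι) (v := fun i => if orb P.sι i = j then c i else 1) h1 i
  simp only [hi, orb_rp, if_true] at h3
  rw [h3]

include hF in
theorem rgdT : RGD P.cs P.hC p (P.H.subgroupOf P.TT) (fun j => ⟨P.no j, P.no_mem_TT j⟩)
    fun z => (P.X z).subgroupOf P.TT :=
  rgd_restrict (P.rgd hF) P.TT (fun _ => P.X_le_TT) P.no_mem_TT

theorem Sup_sub {S : Set (Orb P.sι → ℤ)} (hS : ∀ z ∈ S, IsRoot P.cs P.hC z) :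
    RGD.Sup (fun z => (P.X z).subgroupOf P.TT) S = (RGD.Sup P.X S).subgroupOf P.TT :=
  (iSup_subgroupOf _ fun z : S => P.X_le_TT (hS z.1 z.2)).symm

/-- the rank one relation in the form of `TSys` -/
theorem rank_T {j : Orb P.sι} {v : ι → k} (hv : ∀ i, orb P.sι i = j → v (P.sι i) = v i ^ p ^ P.f) (h1 : P.xo j v ≠ 1) :
    ∃ y ∈ P.X (-sr j), ∃ b : P.CC j, ∃ x ∈ P.X (sr j),
      P.xo j v * P.no j = y * D.κ (P.cor j b) * x ∧ ((b : kˣ) : k) = -v (rp j) := by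
  classical
  have h2 : ∀ i, orb P.sι i = j → v i ≠ 0 := by
    intro i hi h0
    apply h1
    rw [← P.po_one j]
    exact P.po_congr fun i' hi' => by
      rw [by_contra fun h : ¬ v i' = 0 => P.tw_ne_zero hv hi' hi h h0, D.x_zero]
  let c : ι → kˣ := fun i => if h : orb P.sι i = j then Units.mk0 (-v i) (neg_ne_zero.2 (h2 i h)) else 1
  have hc : ∀ i, orb P.sι i = j → (c i : k) = -v i := fun i hi => by simp only [c, dif_pos hi, Units.val_mk0]
  have hc' : ∀ i, orb P.sι i = j → (c (P.sι i) : k) = c i ^ p ^ P.f := fun i hi => by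
    rw [hc i hi, hc _ (by rw [orb_apply, hi]), hv i hi, neg_pow_q]
  obtain ⟨b, hb, hb'⟩ := P.ho_eq_cor (c := c) fun i hi => Units.ext (hc' i hi)
  have h3 := P.rank_o j (v + 1) (-1) c fun i hi => by rw [hc i hi]; simp
  refine ⟨_, P.mem_X_neg.2 ⟨fun i => (-1 : ι → k) i / c i, fun i hi => by simp [hc' i hi, div_pow, neg_pow_q], rfl⟩, b, _,
    mul_mem (P.mem_X_sr.2 ⟨fun i => (v + 1) i / c i, fun i hi => by
      simp [hc' i hi, hv i hi, div_pow, add_pow_char_pow], rfl⟩) (P.xo_one_mem j), ?_, by rw [hb, hc _ (orb_rp j)]⟩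
  rw [← hb', ← mul_assoc, ← h3, no_def, xo_add]
  simp only [mul_assoc]

theorem rin : RIn (P.rgdT hF) (fun j => P.CC j) P.hT fun j => ⟨P.no j, P.no_mem_TT j⟩ where
  comm _ hs _ ht := Subtype.ext (D.TorK_comm hs.1 ht.1)
  hh_mem j b := P.κ_cor_mem j b
  H_gen t ht := by
    obtain ⟨s, hs, e⟩ := P.H_le (K := (Subgroup.closure {g | ∃ j b, g = P.hT j b}).map P.TT.subtype) (fun j c hc => by
      obtain ⟨b, -, hb⟩ := P.ho_eq_cor (j := j) fun i _ => hc i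
      exact ⟨_, Subgroup.subset_closure ⟨j, b, rfl⟩, hb.symm⟩) ht
    rwa [← Subtype.ext e]
  gen := by
    rw [eq_top_iff]
    refine le_sup_of_le_left (le_of_eq ?_)
    have h1 := iSup_subgroupOf (K := P.TT) (fun j => P.X (sr j) ⊔ P.X (-sr j)) fun j =>
      sup_le (P.X_le_TT (isRoot_sr _ _ j)) (P.X_le_TT (isRoot_sr _ _ j).neg)
    rw [← P.TT_eq_iSup hF, Subgroup.subgroupOf_self] at h1
    rw [h1]
    exact iSup_congr fun j => Subgroup.subgroupOf_sup (P.X_le_TT (isRoot_sr _ _ j)) (P.X_le_TT (isRoot_sr _ _ j).neg)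
  hn _ := ⟨1, one_mem _, (one_mul _).symm⟩
  rank j u hu h1 := by
    obtain ⟨v, hv, e⟩ := P.mem_X_sr.1 hu
    obtain ⟨y, hy, b, x, hx, h2, -⟩ := P.rank_T hv fun h => h1 (Subtype.ext (e.trans h))
    exact ⟨⟨y, P.X_le_TT (isRoot_sr _ _ j).neg hy⟩, hy, b, ⟨x, P.X_le_TT (isRoot_sr _ _ j) hx⟩, hx,
      Subtype.ext (by rw [← e] at h2; exact h2)⟩

/-- **the system** -/
noncomputable def sys : TSys (Orb P.sι) (fun j => P.CC j) P.TT := ofRGD (P.rgdT hF) (P.rin hF)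

theorem sys_U : (P.sys hF).U = (D.U ⊓ P.Fx).subgroupOf P.TT := by
  rw [P.U_fix hF, ← P.Sup_sub fun _ hz => hz.1]; rfl

theorem sys_Um : (P.sys hF).Um = (D.Um ⊓ P.Fx).subgroupOf P.TT := by
  rw [P.Um_fix hF, UN, ← P.Sup_sub fun _ hz => hz.1]; rfl

theorem U_le_TT : D.U ⊓ P.Fx ≤ P.TT := fun _ h => P.mem_TT_U h.1 h.2

theorem sys_map : (P.sys hF).Map D.toFDat P.TT.subtype (fun j => (P.CC j).subtype) (orb P.sι)
    fun i => (p ^ P.f) ^ ex P.sι i where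
  U u hu := by rw [sys_U] at hu; exact hu.1
  Um u hu := by rw [sys_Um] at hu; exact hu.1
  H _ ht := D.TorK_le_T ht.1
  hh i j b := by
    show D.Δ i (D.κ (P.cor j b)) = _
    rw [D.Δ_κ, cor_apply]
    split_ifs <;> rfl
  n i j := P.Δ_no j i
  e_pos _ := Nat.pow_pos (Nat.zero_lt_of_lt P.one_lt_q)
  τ g hg := by
    rw [Subgroup.range_subtype] at hg ⊢
    exact P.τ_TT hg

theorem rr_eq {j : Orb P.sι} {u : P.TT} {v : ι → k} (hv : ∀ i, orb P.sι i = j → v (P.sι i) = v i ^ p ^ P.f)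
    (e : (u : G) = P.xo j v) (h1 : u ≠ 1) : ((((P.sys hF).rr j u).2.1 : kˣ) : k) = -v (rp j) := by
  have hu : u ∈ (P.sys hF).X j := P.mem_X_sr.2 ⟨v, hv, e⟩
  obtain ⟨h2, h3, h4⟩ := (P.sys hF).rr_spec hu h1
  obtain ⟨y, hy, b, x, hx, h5, h6⟩ := P.rank_T hv fun h => h1 (Subtype.ext (e.trans h))
  have h7 : (u : G) * P.no j = ((P.sys hF).rr j u).1 * D.κ (P.cor j ((P.sys hF).rr j u).2.1) * ((P.sys hF).rr j u).2.2 :=
    congrArg Subtype.val h4
  have h8 := congrArg (D.Δ (rp j)) (h7.symm.trans (e ▸ h5))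
  have h2' : (((P.sys hF).rr j u).1 : G) ∈ D.Um := P.X_le_Um (neg_nonpos.2 (sr_nonneg j)) h2
  have h3' : (((P.sys hF).rr j u).2.2 : G) ∈ D.U := P.X_le_U (sr_nonneg j) h3
  rw [D.Δ_cell _ h2' h3',
    D.Δ_cell _ (P.X_le_Um (neg_nonpos.2 (sr_nonneg j)) hy) (P.X_le_U (sr_nonneg j) hx), D.Δ_κ, D.Δ_κ, cor_apply,
    cor_apply, if_pos (orb_rp j), if_pos (orb_rp j), ex_rp, pow_zero, pow_one, pow_one] at h8
  rw [h8, h6]

theorem count_rr (j : Orb P.sι) (b : P.CC j) :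
    Nat.card {u : P.TT // u ∈ (P.sys hF).X j ∧ u ≠ 1 ∧ ((P.sys hF).rr j u).2.1 = b} = 1 := by
  let v : ι → k := fun i => (-((b : kˣ) : k)) ^ (p ^ P.f) ^ ex P.sι i
  have hb : ((b : kˣ) : k) ^ (p ^ P.f) ^ ol j = (b : kˣ) := by exact_mod_cast congrArg Units.val (P.mem_CC.1 b.2)
  have hv : ∀ i, orb P.sι i = j → v (P.sι i) = v i ^ p ^ P.f := fun i hi =>
    tw_mk (by rw [hi, ← pow_mul, neg_pow, neg_one_pow_char_pow, neg_one_mul, pow_mul, hb])
  have hv0 : v (rp j) = -((b : kˣ) : k) := by simp only [v, ex_rp, pow_zero, pow_one]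
  have hx : P.xo j v ∈ P.X (sr j) := P.mem_X_sr.2 ⟨v, hv, rfl⟩
  have h1 : (⟨P.xo j v, P.X_le_TT (isRoot_sr _ _ j) hx⟩ : P.TT) ≠ 1 := fun h => by
    have h2 := P.xo_inj ((congrArg Subtype.val h).trans (P.xo_zero j).symm) (orb_rp j)
    rw [hv0] at h2
    exact (b : kˣ).ne_zero (neg_eq_zero.1 h2)
  rw [Nat.card_eq_one_iff_exists]
  refine ⟨⟨_, hx, h1, Subtype.ext (Units.ext (by rw [P.rr_eq hF hv rfl h1, hv0, neg_neg]))⟩, ?_⟩
  rintro ⟨u, hu, h2, h3⟩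
  obtain ⟨w, hw, e⟩ := P.mem_X_sr.1 hu
  have h4 := P.rr_eq hF hw e h2
  rw [h3] at h4
  refine Subtype.ext (Subtype.ext (e.trans (P.po_congr fun i hi => ?_)))
  have h5 : ∀ i, (fun i => if orb P.sι i = j then w i else 1) (P.sι i) =
      (fun i => if orb P.sι i = j then w i else 1) i ^ p ^ P.f := fun i => by
    simp only [orb_apply]
    split_ifs with h
    · exact hw i h
    · rw [one_pow]
  have h6 := tw_ex (σ := P.sι) (v := fun i => if orb P.sι i = j then w i else 1) h5 i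
  simp only [hi, orb_rp, if_true] at h6
  simp only [v, h4, neg_neg, h6]

theorem hyp [Finite P.TT] : Hyp p (P.sys hF) D.toFDat P.TT.subtype (fun j => (P.CC j).subtype) (orb P.sι)
    (fun i => (p ^ P.f) ^ ex P.sι i) fun _ => p ^ P.f where
  map := P.sys_map hF
  Up := by have := P.osym.finite_W; exact isPGroup_U _ _
  Um := by have := P.osym.finite_W; exact isPGroup_Um _ _
  fin j := (P.card_CC j).1
  cyc j := by have := (P.card_CC j).1; infer_instance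
  χ_inj j := (P.CC j).subtype_injective
  sg0 a j b hb := by
    have := (P.card_CC j).1
    let _ := Fintype.ofFinite (P.CC j)
    exact TSys.sg_zero_of_count (p := p) (fun b => by rw [count_rr, Nat.cast_one]) hb
  qq_pos _ := Nat.zero_lt_of_lt P.one_lt_q
  cmq := cmq_const _ _
  low l hl F hF' h1 n hn := by
    refine ⟨DatR.H_mem _ n hF', fun b d h0 hd => ?_⟩
    obtain ⟨j, c, L, hc, hL, h2⟩ := P.exists_cls b
    have h3 : ({a : k | a ^ (p ^ P.f) ^ ol j = a}).Finite := P.finite_fix j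
    refine Low.low_cls (A := h3.toFinset) (q := p ^ P.f) (Q := (p ^ P.f) ^ (ol j - 1)) ?_
      (Nat.pow_pos (Nat.zero_lt_of_lt P.one_lt_q)) hc hL hF' (fun a ha => funext (h1 _ ?_)) hn h0 hd
    · rw [← pow_succ', Nat.sub_add_cancel (ol_pos j), ← Set.ncard_eq_toFinset_card _ h3, ← Nat.card_coe_set_eq]
      exact (P.card_fix j).ge
    · have h4 := h2 a (h3.mem_toFinset.1 ha)
      exact ⟨⟨_, P.U_le_TT h4⟩, by rw [sys_U]; exact h4, rfl⟩
  lam a ha := by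
    refine ⟨fun i => a (orb P.sι i) / (p ^ P.f) ^ ex P.sι i % p ^ P.f,
      fun i => Nat.mod_lt _ (Nat.zero_lt_of_lt P.one_lt_q), fun j => ?_⟩
    rw [wt_orb, ← Nat.mod_eq_of_lt (show a j < (p ^ P.f) ^ ol j by have := ha j; have := (P.card_CC j).2; omega),
      ← digits_sum]
    exact Finset.sum_congr rfl fun m hm => by rw [orb_pow, orb_rp, ex_pow j (mem_range.1 hm)]

theorem wt_le (l : ι → ℕ) (hl : ∀ i, l i < p ^ P.f) (j : Orb P.sι) :
    TSys.wt (orb P.sι) (fun i => (p ^ P.f) ^ ex P.sι i) l j ≤ Nat.card (P.CC j) := by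
  have h1 := digits_lt (g := fun m => l ((P.sι ^ m) (rp j))) (fun _ => hl _) (ol j)
  have h2 := (P.card_CC j).2
  rw [wt_orb]
  omega

theorem wt_inj (l l' : ι → ℕ) (hl : ∀ i, l i < p ^ P.f) (hl' : ∀ i, l' i < p ^ P.f)
    (h : TSys.wt (orb P.sι) (fun i => (p ^ P.f) ^ ex P.sι i) l = TSys.wt (orb P.sι) (fun i => (p ^ P.f) ^ ex P.sι i) l') :
    l = l' := by
  funext i
  have h1 := congrFun h (orb P.sι i)
  rw [wt_orb, wt_orb] at h1
  have h2 := digits_inj (g := fun m => l ((P.sι ^ m) (rp _))) (g' := fun m => l' ((P.sι ^ m) (rp _)))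
    (fun _ => hl _) (fun _ => hl' _) _ h1 _ (ex_lt i)
  simpa only [pow_ex] using h2

theorem card_U : Nat.card (P.sys hF).U = (p ^ P.f) ^ Fintype.card Φ := by
  rw [sys_U, Nat.card_congr (Subgroup.subgroupOfEquivOfLe P.U_le_TT).toEquiv, P.card_U' hF]

theorem syl [Finite P.TT] : ¬ p ∣ (P.sys hF).U.index := by
  have := P.osym.finite_W
  have h1 := Cfsg.Agent.KFacts.RgdSyl.not_dvd_relIndex (P.rgdT hF)
  rw [Cfsg.Agent.Nodes.Bruhat.GG, P.Sup_sub (S := {x | IsRoot P.cs P.hC x}) fun _ hz => hz, ← G1, ← P.TT_eq_G1 hF, Subgroup.subgroupOf_self,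
    sup_top_eq, Subgroup.relIndex_top_right] at h1
  exact h1

end Tws

end Cfsg.Agent.TwoF.DC
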