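import Cfsg.Agent.TwoF.DC.Fin.Rel
import Cfsg.Agent.TwoF.DC.Rep
import Cfsg.Agent.TwoF.DC.Mod.Pol

/-!
# TwoF, defining characteristic: the finite groups, the torus and the Weyl group elements (helper7)

* `RDat.κ`, `RDat.TorK` : the torus in coroot coordinates, `RC.ch` : the root characters;
* `RDat.nwl` : products of Weyl group elements, `RDat.braid` : they lie in the torus when they preserve positivity;
* `RDat.Δ_hom` : the fundamental functions and endomorphisms which permute the simple root groups.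
-/

set_option autoImplicit false
set_option linter.unusedSectionVars false

namespace Cfsg.Agent.TwoF.DC

open Finset Cfsg.Agent.H45.UniE

variable {p : ℕ} {ι Φ k G : Type} [Fintype ι] [DecidableEq ι] [Fintype Φ] [DecidableEq Φ] [Field k] [Group G]

variable (k) in
/-- the character of a weight, in coroot coordinates -/
def wch (μ : ι → ℤ) : (ι → kˣ) →* kˣ where
  toFun c := ∏ j, c j ^ μ j
  map_one' := by simp
  map_mul' a b := by simp only [Pi.mul_apply, mul_zpow, Finset.prod_mul_distrib]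

theorem wch_apply (μ : ι → ℤ) (c : ι → kˣ) : wch k μ c = ∏ j, c j ^ μ j := rfl

theorem wch_single (μ : ι → ℤ) (i : ι) (c : kˣ) : wch k μ (Pi.mulSingle i c) = c ^ μ i := by
  rw [wch_apply, Finset.prod_eq_single i (fun j _ hj => by rw [Pi.mulSingle_eq_of_ne hj, one_zpow])
    (fun h => (h (mem_univ i)).elim), Pi.mulSingle_eq_same]

theorem wch_neg (μ : ι → ℤ) (c : ι → kˣ) : wch k (-μ) c = (wch k μ c)⁻¹ := by
  simp only [wch_apply, Pi.neg_apply, zpow_neg, Finset.prod_inv_distrib]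

theorem zpow_sum' {A α : Type*} [CommGroup A] (a : A) (s : Finset α) (g : α → ℤ) :
    a ^ ∑ i ∈ s, g i = ∏ i ∈ s, a ^ g i := by
  classical
  induction s using Finset.induction_on with
  | empty => simp
  | insert i s hi ih => rw [Finset.sum_insert hi, Finset.prod_insert hi, zpow_add, ih]

namespace RDat

variable (D : RDat p ι Φ k G)

/-- the coroot homomorphisms -/
def hhH (i : ι) : kˣ →* G := MonoidHom.mk' (D.hh i) (D.hh_mul i)

/-- the torus in coroot coordinates -/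
def κ : (ι → kˣ) →* G := MonoidHom.noncommPiCoprod D.hhH fun i j _ c d => D.hh_comm i j c d

theorem κ_single (i : ι) (c : kˣ) : D.κ (Pi.mulSingle i c) = D.hh i c :=
  MonoidHom.noncommPiCoprod_mulSingle (N := fun _ : ι => kˣ) D.hhH i c

/-- the torus -/
def TorK : Subgroup G := D.κ.range

theorem hh_mem_TorK (i : ι) (c : kˣ) : D.hh i c ∈ D.TorK := ⟨_, D.κ_single i c⟩

theorem κ_mem {K : Subgroup G} (h : ∀ i c, D.hh i c ∈ K) (c : ι → kˣ) : D.κ c ∈ K := by
  induction c using Pi.mulSingle_induction with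
  | one => rw [map_one]; exact K.one_mem
  | mul a b ha hb => rw [map_mul]; exact K.mul_mem ha hb
  | mulSingle i c => rw [κ_single]; exact h i c

theorem TorK_le {K : Subgroup G} (h : ∀ i c, D.hh i c ∈ K) : D.TorK ≤ K := by
  rintro _ ⟨c, rfl⟩
  exact D.κ_mem h c

theorem TorK_le_T : D.TorK ≤ D.T := D.TorK_le D.hh_mem

theorem κ_mem_T (c : ι → kˣ) : D.κ c ∈ D.T := D.κ_mem D.hh_mem c

theorem TorK_comm {s t : G} (hs : s ∈ D.TorK) (ht : t ∈ D.TorK) : s * t = t * s := by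
  obtain ⟨a, rfl⟩ := hs
  obtain ⟨b, rfl⟩ := ht
  rw [← map_mul, mul_comm, map_mul]

theorem Δ_κ (i : ι) (c : ι → kˣ) : D.Δ i (D.κ c) = c i := by
  induction c using Pi.mulSingle_induction with
  | one => rw [map_one, D.Δ_one]; rfl
  | mul a b ha hb => rw [map_mul, D.Δ_T i _ (D.κ_mem_T b), ha, hb, Pi.mul_apply, Units.val_mul, mul_comm]
  | mulSingle j c =>
    rw [κ_single, D.Δ_hh, Pi.mulSingle_apply]
    split_ifs <;> rfl

theorem κ_inj : Function.Injective D.κ := fun a b h =>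
  funext fun i => Units.ext (by rw [← D.Δ_κ, h, D.Δ_κ])

theorem κ_ζ (c : ι → kˣ) (x : Bool × Φ) : ∀ a : k, D.κ c * D.ζ x a = D.ζ x (wch k (D.R.wt x) c * a) * D.κ c := by
  induction c using Pi.mulSingle_induction with
  | one => intro a; simp
  | mul c d hc hd =>
    intro a
    rw [map_mul, mul_assoc, hd, ← mul_assoc, hc, map_mul, Units.val_mul, mul_assoc, mul_assoc]
  | mulSingle j c => intro a; rw [κ_single, wch_single, hh_ζ]

theorem κ_x (c : ι → kˣ) (i : ι) (a : k) :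
    D.κ c * D.x i a = D.x i (wch k (D.R.wt (true, D.R.zi i)) c * a) * D.κ c := by
  rw [← ζ_x, κ_ζ, ζ_x]

theorem κ_y (c : ι → kˣ) (i : ι) (a : k) :
    D.κ c * D.y i a = D.y i (((wch k (D.R.wt (true, D.R.zi i)) c)⁻¹ : kˣ) * a) * D.κ c := by
  rw [← ζ_y, κ_ζ, ζ_y, RC.wt_false, wch_neg]

theorem TorK_ζ {t : G} (ht : t ∈ D.TorK) (x : Bool × Φ) : ∃ ε : kˣ, ∀ a, t * D.ζ x a = D.ζ x (ε * a) * t := by
  obtain ⟨c, rfl⟩ := ht
  exact ⟨_, D.κ_ζ c x⟩

theorem κ_central {c : ι → kˣ} (h : ∀ i, wch k (D.R.wt (true, D.R.zi i)) c = 1) (g : G) : D.κ c * g = g * D.κ c := by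
  have h1 : Subgroup.closure {g | ∃ i s, g = D.x i s ∨ g = D.y i s} ≤ Subgroup.centralizer {D.κ c} := by
    rw [Subgroup.closure_le]
    rintro _ ⟨i, s, rfl | rfl⟩
    · rw [SetLike.mem_coe, Subgroup.mem_centralizer_singleton_iff, κ_x, h, Units.val_one, one_mul]
    · rw [SetLike.mem_coe, Subgroup.mem_centralizer_singleton_iff, κ_y, h, inv_one, Units.val_one, one_mul]
  rw [D.gen] at h1
  exact (Subgroup.mem_centralizer_singleton_iff.1 (h1 (Subgroup.mem_top g))).symm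

theorem τ_ζ (x : Bool × Φ) (t : k) : D.τ (D.ζ x t) = D.ζ (ng x) t := by
  rcases x with ⟨_ | _, b⟩
  · rw [ζ_false, D.τ_τ]; rfl
  · rfl

theorem Δ_U (i : ι) {u : G} (hu : u ∈ D.U) (g : G) : D.Δ i (g * u) = D.Δ i g := by
  induction hu using Subgroup.closure_induction generalizing g with
  | mem u hu => obtain ⟨b, s, rfl⟩ := hu; exact D.Δ_z i b g s
  | one => rw [mul_one]
  | mul a b _ _ h1 h2 => rw [← mul_assoc, h2, h1]
  | inv a _ h1 => rw [← h1 (g * a⁻¹), inv_mul_cancel_right]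

theorem Δ_Um (i : ι) {u : G} (hu : u ∈ D.Um) (g : G) : D.Δ i (u * g) = D.Δ i g := by
  rw [← D.Δ_τ, D.τ_mul, D.Δ_U i (D.τ_Um hu), D.Δ_τ]

theorem Δ_cell (i : ι) {v t u : G} (hv : v ∈ D.Um) (hu : u ∈ D.U) : D.Δ i (v * t * u) = D.Δ i t := by
  rw [D.Δ_U i hu, D.Δ_Um i hv]

theorem Δ_xy (i : ι) {a s : k} (h : 1 + a * s ≠ 0) : D.Δ i (D.x i a * D.y i s) = 1 + a * s := by
  rw [D.rank i a s (Units.mk0 _ h) rfl, D.Δ_cell i (D.y_mem_Um _ _) (D.x_mem_U _ _), D.Δ_hh, if_pos rfl]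
  rfl

/-! ### the Weyl group elements -/

theorem nw_inv (i : ι) : (D.nw i)⁻¹ = D.nw i * D.hh i (-1) := by
  have h := D.nw_u i (-1)
  rw [inv_neg, inv_one, Units.val_neg, Units.val_one, inv_neg, inv_one, neg_neg] at h
  rw [← h, nw, mul_inv_rev, mul_inv_rev, ← D.x_neg, ← D.y_neg, neg_neg, mul_assoc]

theorem nw_sq (i : ι) : D.nw i * D.nw i = D.hh i (-1) := by
  have h1 : D.hh i (-1) * D.hh i (-1) = 1 := by rw [← D.hh_mul, neg_mul_neg, one_mul, hh_one]
  have h2 := D.nw_inv i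
  calc _ = D.nw i * (D.nw i * D.hh i (-1)) * D.hh i (-1) := by rw [mul_assoc, mul_assoc, h1, mul_one]
    _ = _ := by rw [← h2, mul_inv_cancel, one_mul]

theorem nw_mem_normalizer (i : ι) : D.nw i ∈ Subgroup.normalizer (D.TorK : Set G) := by
  have h1 : ∀ t ∈ D.TorK, (D.nw i)⁻¹ * t * D.nw i ∈ D.TorK := by
    intro t ht
    rw [← inv_inv (D.nw i), inv_inv (D.nw i)⁻¹]
    refine D.TorK_le (K := D.TorK.comap (MulAut.conj (D.nw i)⁻¹).toMonoidHom) (fun j c => ?_) ht
    show (D.nw i)⁻¹ * D.hh j c * (D.nw i)⁻¹⁻¹ ∈ D.TorK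
    rw [inv_inv, mul_assoc, hh_nw, mul_assoc, inv_mul_cancel_left]
    exact mul_mem (D.hh_mem_TorK _ _) (D.hh_mem_TorK _ _)
  rw [Subgroup.mem_normalizer_iff]
  intro t
  refine ⟨fun ht => ?_, fun ht => by simpa [mul_assoc] using h1 _ ht⟩
  have h2 := h1 _ (mul_mem (mul_mem (D.hh_mem_TorK i (-1)) ht) (inv_mem (D.hh_mem_TorK i (-1))))
  rw [← nw_sq] at h2
  simpa [mul_assoc] using h2

/-- the product of the Weyl group elements of a word -/
def nwl (l : List ι) : G := (l.map D.nw).prod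

theorem nwl_nil : D.nwl [] = 1 := rfl

theorem nwl_cons (i : ι) (l : List ι) : D.nwl (i :: l) = D.nw i * D.nwl l := List.prod_cons

theorem nwl_append (l l' : List ι) : D.nwl (l ++ l') = D.nwl l * D.nwl l' := by
  rw [nwl, List.map_append, List.prod_append]; rfl

theorem nwl_mem_normalizer (l : List ι) : D.nwl l ∈ Subgroup.normalizer (D.TorK : Set G) :=
  Subgroup.list_prod_mem _ fun _ hg => by
    obtain ⟨i, -, rfl⟩ := List.mem_map.1 hg
    exact D.nw_mem_normalizer i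

variable [Infinite k]

theorem nwl_ζ (l : List ι) (x : Bool × Φ) :
    ∃ ε : kˣ, ∀ t, D.nwl l * D.ζ x t = D.ζ (D.R.srl l x) (ε * t) * D.nwl l := by
  induction l with
  | nil => exact ⟨1, fun t => by rw [nwl_nil, one_mul, mul_one, Units.val_one, one_mul]; rfl⟩
  | cons i l ih =>
    obtain ⟨ε, h⟩ := ih
    obtain ⟨ε', h'⟩ := D.nw_ζ i (D.R.srl l x)
    exact ⟨ε' * ε, fun t => by
      rw [nwl_cons, mul_assoc, h, ← mul_assoc, h', mul_assoc, Units.val_mul, mul_assoc, RC.srl_cons]⟩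

/-- an element which normalises the torus and conjugates the `i`-th rank one group to the `j`-th -/
theorem conj_nw {g : G} (hg : g ∈ Subgroup.normalizer (D.TorK : Set G)) {i j : ι} {ε ε' : kˣ}
    (hx : ∀ t, g * D.x i t = D.x j (ε * t) * g) (hy : ∀ t, g * D.y i t = D.y j (ε' * t) * g) :
    g * D.nw i = D.nw j * D.hh j ε⁻¹ * g := by
  have hT : ∀ c, g * D.hh i c * g⁻¹ ∈ D.T := fun c =>
    D.TorK_le_T ((Subgroup.mem_normalizer_iff.1 hg _).1 (D.hh_mem_TorK i c))
  have h1 : ∀ (u : k) (c : kˣ), (c : k) = 1 + u → 1 + ε * ε' * u ≠ 0 →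
      D.Δ j (g * D.hh i c * g⁻¹) = 1 + ε * ε' * u := by
    intro u c hc hu
    have h2 := D.rank i 1 u c (by rw [hc, one_mul])
    have h3 : D.x j (ε * 1) * D.y j (ε' * u) =
        D.y j (ε' * (u / c)) * (g * D.hh i c * g⁻¹) * D.x j (ε * (1 / c)) := by
      calc _ = g * (D.x i 1 * D.y i u) * g⁻¹ := by rw [← mul_assoc, hx, mul_assoc _ g, hy]; group
        _ = g * D.y i (u / c) * D.hh i c * g⁻¹ * (g * D.x i (1 / c)) * g⁻¹ := by rw [h2]; group
        _ = _ := by rw [hx, hy]; group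
    have h4 := congrArg (D.Δ j) h3
    rw [D.Δ_cell j (D.y_mem_Um _ _) (D.x_mem_U _ _), D.Δ_xy j (by rwa [mul_one, ← mul_assoc])] at h4
    rw [← h4, mul_one, mul_assoc]
  have h5 : (ε : k) * ε' = 1 := by
    classical
    set η : k := ε * ε' with hη
    have hη0 : η ≠ 0 := mul_ne_zero ε.ne_zero ε'.ne_zero
    let P : Polynomial k := Polynomial.X * (1 + Polynomial.X) * (1 + Polynomial.C η * Polynomial.X) *
      (1 + Polynomial.C η * (2 * Polynomial.X + Polynomial.X ^ 2))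
    have hP : P ≠ 0 := by
      refine mul_ne_zero (mul_ne_zero (mul_ne_zero Polynomial.X_ne_zero ?_) ?_) ?_ <;>
        exact fun h => by simpa using congrArg (Polynomial.eval 0) h
    obtain ⟨u, hu⟩ := Infinite.exists_notMem_finset P.roots.toFinset
    rw [Multiset.mem_toFinset, Polynomial.mem_roots hP, Polynomial.IsRoot.def] at hu
    simp only [P, Polynomial.eval_mul, Polynomial.eval_add, Polynomial.eval_X, Polynomial.eval_one,
      Polynomial.eval_C, Polynomial.eval_pow, Polynomial.eval_ofNat, mul_eq_zero, not_or] at hu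
    obtain ⟨⟨⟨u0, u1⟩, u2⟩, u3⟩ := hu
    have a1 := h1 u (Units.mk0 _ u1) rfl u2
    have a2 := h1 (2 * u + u ^ 2) (Units.mk0 _ u1 * Units.mk0 _ u1) (by simp; ring) u3
    have e : g * D.hh i (Units.mk0 _ u1 * Units.mk0 _ u1) * g⁻¹ =
        g * D.hh i (Units.mk0 _ u1) * g⁻¹ * (g * D.hh i (Units.mk0 _ u1) * g⁻¹) := by rw [D.hh_mul]; group
    rw [e, D.Δ_T j _ (hT _), a1] at a2
    have a3 : η * u ^ 2 * (η - 1) = 0 := by linear_combination a2
    exact sub_eq_zero.1 ((mul_eq_zero.1 a3).resolve_left (mul_ne_zero hη0 (pow_ne_zero _ u0)))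
  rw [← D.nw_u j ε, nw, ← mul_assoc, ← mul_assoc, hx, mul_assoc _ g, hy, ← mul_assoc, mul_assoc _ g, hx, ← mul_assoc,
    mul_one, mul_neg, mul_one, eq_inv_of_mul_eq_one_right h5]

omit [Infinite k] in
theorem _root_.Cfsg.Agent.TwoF.DC.RC.exists_split (R : RC ι Φ) (l : List ι) (x : Bool × Φ) (hx : x.1 = true)
    (hl : (R.srl l x).1 = false) : ∃ l₁ j l₂, l = l₁ ++ j :: l₂ ∧ R.srl l₂ x = (true, R.zi j) := by
  induction l with
  | nil => rw [RC.srl_nil, hx] at hl; cases hl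
  | cons j t ih =>
    by_cases ht : (R.srl t x).1 = false
    · obtain ⟨l₁, j', l₂, h1, h2⟩ := ih ht
      exact ⟨j :: l₁, j', l₂, by rw [h1]; rfl, h2⟩
    · refine ⟨[], j, t, rfl, ?_⟩
      rw [RC.srl_cons] at hl
      generalize R.srl t x = y at ht hl
      rcases y with ⟨_ | _, b⟩
      · simp at ht
      · by_contra hne
        rw [R.sr_of_ne _ _ (fun h => hne (by rw [h]))] at hl
        cases hl

/-- **words which preserve positivity** -/
theorem braid (l : List ι) (hl : ∀ i, (D.R.srl l (true, D.R.zi i)).1 = true) : D.nwl l ∈ D.TorK := by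
  induction hn : l.length using Nat.strong_induction_on generalizing l with
  | _ n ih =>
    rcases List.eq_nil_or_concat' l with rfl | ⟨t, i, rfl⟩
    · exact D.TorK.one_mem
    · have h1 : (D.R.srl t (true, D.R.zi i)).1 = false := by
        have h2 := hl i
        rw [RC.srl_append, RC.srl_cons, RC.srl_nil, RC.sr_zi, Bool.not_true, ← ng_true, RC.srl_ng] at h2
        simpa [ng] using h2
      obtain ⟨l₁, j, l₂, rfl, h2⟩ := D.R.exists_split t _ rfl h1
      obtain ⟨ε, hx⟩ := D.nwl_ζ l₂ (true, D.R.zi i)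
      obtain ⟨ε', hy⟩ := D.nwl_ζ l₂ (false, D.R.zi i)
      rw [← ng_true, RC.srl_ng, h2, ng_true, ng_true] at hy
      rw [h2] at hx
      simp only [ζ_x, ζ_y] at hx hy
      have h3 := D.conj_nw (D.nwl_mem_normalizer l₂) hx hy
      have h4 : ∀ x, D.R.srl (l₁ ++ j :: l₂ ++ [i]) x = D.R.srl (l₁ ++ l₂) x := fun x => by
        apply D.R.wt_inj
        rw [RC.wt_srl, RC.wt_srl, RC.swl_append, RC.swl_append, RC.swl_append, RC.swl_cons, RC.swl_cons, RC.swl_nil,
          ← D.R.rf_zi i, RC.swl_rf, h2, RC.rf_zi, RC.sw_sw]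
      have h5 := ih (l₁ ++ l₂).length (by rw [← hn]; simp) (l₁ ++ l₂) (fun i' => by rw [← h4]; exact hl i') rfl
      have h6 : D.nwl (l₁ ++ j :: l₂ ++ [i]) =
          D.nwl l₁ * (D.hh j (-1) * D.hh j ε⁻¹) * (D.nwl l₁)⁻¹ * D.nwl (l₁ ++ l₂) := by
        rw [nwl_append, nwl_append, nwl_append, nwl_cons, nwl_cons, nwl_nil, mul_one, mul_assoc, mul_assoc, h3,
          ← nw_sq]
        group
      rw [h6]
      exact mul_mem ((Subgroup.mem_normalizer_iff.1 (D.nwl_mem_normalizer l₁) _).1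
        (mul_mem (D.hh_mem_TorK _ _) (D.hh_mem_TorK _ _))) h5

theorem Δ_nw (i : ι) : D.Δ i (D.nw i) = 0 :=
  Cfsg.Agent.H564.TW.Δ_zero_of D.toFDat fun c => by
    rw [mul_assoc, hh_nw, mul_assoc, inv_mul_cancel_left, ← D.hh_mul, D.R.C_self]
    congr 1
    group

/-! ### density with the small torus -/

omit [Infinite k] in
theorem wt_eq_sum (b : Φ) (m : ι → ℤ) :
    ∑ j, m j * D.R.wt (true, b) j = ∑ i, (∑ j, m j * D.R.C j i) * D.R.cf b i := by
  simp only [RC.wt, RC.toWt, RC.vec_true, Finset.mul_sum, Finset.sum_mul, mul_assoc]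
  exact Finset.sum_comm

theorem dens_TorK {f f' : G → k} (hpol : ∀ i g h, ∃ P : Polynomial k, ∀ s, f (g * D.y i s * h) = P.eval s)
    (hpol' : ∀ i g h, ∃ P : Polynomial k, ∀ s, f' (g * D.y i s * h) = P.eval s)
    (h : ∀ v ∈ D.Um0, ∀ t ∈ D.TorK, ∀ u ∈ D.U0, f (v * t * u) = f' (v * t * u)) (g : G) : f g = f' g := by
  obtain ⟨N, B, hN, hB⟩ := D.R.exists_adj
  let D' : GDat ι Φ k G :=
    { D.toFDat.toGDat with
      ht := fun b => N * ∑ i, D.R.cf b i
      T := D.TorK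
      δ := fun s => D.κ fun j => s ^ ∑ l, B l j
      ht_pos := fun b => by
        obtain ⟨j, hj⟩ := D.R.exists_cf_pos b
        exact Nat.mul_pos hN (hj.trans_le (Finset.single_le_sum (fun _ _ => Nat.zero_le _) (mem_univ j)))
      δ_mul := fun s t => by rw [← map_mul]; simp only [mul_zpow]; rfl
      δ_mem := fun s => ⟨_, rfl⟩
      hh_mem := D.hh_mem_TorK
      δ_z := fun s b a => by
        rw [← ζ_true, κ_ζ, ζ_true, wch_apply]
        simp only [← zpow_mul]
        rw [← zpow_sum', wt_eq_sum]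
        simp only [Finset.sum_mul (s := univ) (f := fun l => B l _)]
        have h1 : ∀ i, ∑ j, ∑ l, B l j * D.R.C j i = N := fun i => by
          rw [Finset.sum_comm]; simp [hB]
        simp only [h1]
        rw [← Finset.mul_sum, ← Nat.cast_sum, ← Nat.cast_mul, zpow_natCast, Units.val_pow_eq_pow_val]
      T_x := fun t ht => D.T_x t (D.TorK_le_T ht)
      T_y := fun t ht => D.T_y t (D.TorK_le_T ht)
      τ_T := fun t ht => D.τ_T t (D.TorK_le_T ht) }
  exact D'.dens_eq hpol hpol' h g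

omit [Infinite k] in
theorem map_U0 {α : G →* G} {γ : ι → ι} {ω : k → k} (hx : ∀ i t, α (D.x i t) = D.x (γ i) (ω t)) {u : G}
    (hu : u ∈ D.U0) : α u ∈ D.U0 := by
  refine (Subgroup.closure_le (K := D.U0.comap α)).2 ?_ hu
  rintro _ ⟨i, s, rfl⟩
  show α _ ∈ D.U0
  rw [hx]; exact D.x_mem_U0 _ _

omit [Infinite k] in
theorem map_Um0 {α : G →* G} {γ : ι → ι} {ω : k → k} (hy : ∀ i t, α (D.y i t) = D.y (γ i) (ω t)) {u : G}
    (hu : u ∈ D.Um0) : α u ∈ D.Um0 := by
  refine (Subgroup.closure_le (K := D.Um0.comap α)).2 ?_ hu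
  rintro _ ⟨i, s, rfl⟩
  show α _ ∈ D.Um0
  rw [hy]; exact D.y_mem_Um0 _ _

omit [Infinite k] in
theorem map_κ {α : G →* G} {γ : Equiv.Perm ι} (ω : k →+* k) (hx : ∀ i t, α (D.x i t) = D.x (γ i) (ω t))
    (hy : ∀ i t, α (D.y i t) = D.y (γ i) (ω t)) (c : ι → kˣ) :
    α (D.κ c) = D.κ fun i => Units.map ω.toMonoidHom (c (γ.symm i)) := by
  induction c using Pi.mulSingle_induction with
  | one => simp only [map_one, Pi.one_apply]; exact (map_one D.κ).symm
  | mul a b ha hb => rw [map_mul, map_mul, ha, hb, ← map_mul]; exact congrArg D.κ (funext fun i => (map_mul _ _ _).symm)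
  | mulSingle j c =>
    rw [κ_single, D.map_hh ω hx hy, ← κ_single]
    congr 1
    funext i
    obtain ⟨i, rfl⟩ := γ.surjective i
    rw [Equiv.symm_apply_apply, Pi.mulSingle_apply, Pi.mulSingle_apply]
    simp only [EmbeddingLike.apply_eq_iff_eq]
    split_ifs
    · rfl
    · exact (map_one _).symm

/-- the fundamental functions and endomorphisms -/
theorem Δ_hom {α : G →* G} {γ : Equiv.Perm ι} (ω : k →+* k) {n : ℕ} (hω : ∀ t, ω t = t ^ n)
    (hx : ∀ i t, α (D.x i t) = D.x (γ i) (ω t)) (hy : ∀ i t, α (D.y i t) = D.y (γ i) (ω t)) (i : ι) (g : G) :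
    D.Δ (γ i) (α g) = D.Δ i g ^ n := by
  refine D.dens_TorK (f := fun g => D.Δ (γ i) (α g)) (f' := fun g => D.Δ i g ^ n) (fun j g h => ?_) (fun j g h => ?_)
    (fun v hv t ht u hu => ?_) g
  · obtain ⟨P, -, hP⟩ := D.pol_y (γ i) (γ j) (α g) (α h)
    exact ⟨P.comp (Polynomial.X ^ n), fun s => by
      rw [map_mul, map_mul, hy, hP, hω, Polynomial.eval_comp, Polynomial.eval_pow, Polynomial.eval_X]⟩
  · obtain ⟨P, -, hP⟩ := D.pol_y i j g h
    exact ⟨P ^ n, fun s => by rw [hP, Polynomial.eval_pow]⟩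
  · obtain ⟨c, rfl⟩ := ht
    show D.Δ (γ i) (α (v * D.κ c * u)) = D.Δ i (v * D.κ c * u) ^ n
    rw [map_mul, map_mul, D.Δ_cell _ (D.Um0_le (D.map_Um0 hy hv)) (D.U0_le (D.map_U0 hx hu)),
      D.Δ_cell _ (D.Um0_le hv) (D.U0_le hu), D.map_κ ω hx hy, Δ_κ, Δ_κ, Equiv.symm_apply_apply, ← hω]
    rfl

end RDat

end Cfsg.Agent.TwoF.DC
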